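import Groth.Agent.DRingKP.KProj
import Groth.Agent.KFlat.BoundedRes
import Mathlib.Algebra.Category.ModuleCat.Products
import Mathlib.LinearAlgebra.FreeModule.Basic
import Mathlib.LinearAlgebra.DirectSum.Finsupp

/-!
Free resolutions of bounded above complexes, with the same bound.
-/

set_option autoImplicit false
set_option linter.style.haveILetI false
universe u

open CategoryTheory Limits HomologicalComplex
open scoped ZeroObject

namespace Groth.Agent.HTorBC

open Groth.Agent.KFlat

variable {A : Type u} [CommRing A]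

lemma free_of_isSum {M : ModuleCat.{u} A} (h : IsSum (DRingKP.unitFam A) M) : Module.Free A M := by
  classical
  obtain ⟨I, U, ⟨e⟩⟩ := h
  haveI : Module.Free A (ModuleCat.of A (DirectSum I fun _ : I => (ModuleCat.of A A : Type u))) :=
    Module.Free.of_equiv (finsuppLequivDFinsupp (R := A) (ι := I) (M := A))
  exact Module.Free.of_equiv (e ≪≫ ModuleCat.coprodIsoDirectSum fun _ : I => ModuleCat.of A A).toLinearEquiv.symm

/-- bounded above complexes have free resolutions with the same bound -/
theorem exists_free_resolution (G : DRing.Cx A) (b : ℤ) (hG : ∀ n, b < n → IsZero (G.X n)) :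
    ∃ (K : DRing.Cx A) (q : K ⟶ G), QuasiIso q ∧ (∀ n, Module.Free A (K.X n)) ∧ ∀ n, b < n → IsZero (K.X n) := by
  choose P π hπ hP using DRingKP.exists_cover A
  haveI : ∀ M, Epi (π M) := hπ
  have hsum : ∀ M, IsSum (DRingKP.unitFam A) (coverZ P M) := fun M => by
    unfold coverZ
    split_ifs
    · exact isSum_of_isZero (Limits.isZero_zero _)
    · exact hP M
  let Z := coverZ P
  let s₀ : Stage G := ⟨(single (ModuleCat.{u} A) (ComplexShape.up ℤ) 0).obj (0 : ModuleCat.{u} A), 0⟩
  have hzn : ∀ n, IsZero (s₀.K.X n) := fun n => Functor.map_isZero (eval (ModuleCat.{u} A) (ComplexShape.up ℤ) n)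
    (Functor.map_isZero (single (ModuleCat.{u} A) (ComplexShape.up ℤ) 0) (Limits.isZero_zero _))
  refine ⟨resK Z (coverZπ π) G s₀, resQ Z (coverZπ π) G s₀, quasiIso_resQ Z (coverZπ π) G s₀, fun i => ?_,
    fun n hn => ?_⟩
  · refine free_of_isSum (GoodMono.isSum (f := (resι Z (coverZπ π) G s₀ 0).f i) ?_ (isSum_of_isZero (hzn i)))
    exact goodMono_of_seq (fun n => (stage Z (coverZπ π) G s₀ n).K.X i)
      (fun n => (spheres Z (stage Z (coverZπ π) G s₀ n)).X (i + 1))
      (fun n => (step Z (coverZπ π) G s₀ n).f i)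
      (fun n => homotopyCofiber.XIsoBiprod (attach Z (coverZπ π) (stage Z (coverZπ π) G s₀ n)) i (i + 1) rfl)
      (fun n => inrX_XIsoBiprod (attach Z (coverZπ π) (stage Z (coverZπ π) G s₀ n)) i (i + 1) rfl) (fun n => hsum _)
      (fun n => (resι Z (coverZπ π) G s₀ n).f i)
      (fun n => congrArg (fun g => HomologicalComplex.Hom.f g i) (resι_w Z (coverZπ π) G s₀ n))
      (fun h => resK_hom_ext Z (coverZπ π) G s₀ h) (fun t ht => resK_exists_desc Z (coverZπ π) G s₀ t ht)
  · rw [IsZero.iff_id_eq_zero]
    refine resK_hom_ext Z (coverZπ π) G s₀ fun k => ?_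
    have : IsZero ((stage Z (coverZπ π) G s₀ k).K.X n) := by
      induction k generalizing n with
      | zero => exact hzn n
      | succ k ih =>
        refine isZero_cone_X _ n (isZero_coverZ P (IsZero.of_mono ((CochainComplex.mappingCone
          (stage Z (coverZπ π) G s₀ k).q).iCycles (n + 1 - 1)) ?_)) (ih n hn)
        exact isZero_cone_X _ _ (ih _ (by omega)) (hG _ (by omega))
    exact this.eq_of_src _ _

end Groth.Agent.HTorBC
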