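import Groth.Agent.HTorBC.BaseChange
import Groth.Agent.W7Cech.TensorSec
import Groth.Agent.TorBC.Act

/-!
Tensor products of quasi-coherent modules with modules over the base ring: sections.
-/

set_option autoImplicit false
set_option backward.isDefEq.respectTransparency false
set_option backward.isDefEq.respectTransparency.types false
set_option linter.style.haveILetI false
set_option linter.unusedSectionVars false
set_option maxHeartbeats 1000000

universe u

open CategoryTheory CategoryTheory.Limits AlgebraicGeometry TopologicalSpace Opposite MonoidalCategory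

noncomputable section

namespace Groth.Agent.HTorBC

open Groth.Agent.W7Cech (secA secRing unitSec)
open Groth.Agent.QC

variable (A : Type u) [CommRing A] (X : Scheme.{u}) [X.Over (Spec (CommRingCat.of A))]

/-- the quasi-coherent module of an `A`-module -/
abbrev ofMod : ModuleCat.{u} A ⥤ X.Modules :=
  tilde.functor (CommRingCat.of A) ⋙ Scheme.Modules.pullback (X ↘ Spec (CommRingCat.of A))

instance additive_pullbackOver : (Scheme.Modules.pullback (X ↘ Spec (CommRingCat.of A))).Additive :=
  (Scheme.Modules.pullbackPushforwardAdjunction _).left_adjoint_additive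

instance additive_ofMod : (ofMod A X).Additive := inferInstance

lemma isQCoh_ofMod (N : ModuleCat.{u} A) : Coh.IsQCoh ((ofMod A X).obj N) :=
  QC.isQCoh_pullback _ (QC.isQCoh_tilde (R := CommRingCat.of A) N)

variable {A X}

/-- `- ⊗ N` -/
abbrev tensN (N : ModuleCat.{u} A) : X.Modules ⥤ X.Modules :=
  (DCoh.tensorBi (X := X)).flip.obj ((ofMod A X).obj N)

instance additive_tensN (N : ModuleCat.{u} A) : (tensN (X := X) N).Additive where
  map_add := by
    intro M M' f g
    exact congr_app ((DCoh.tensorBi (X := X)).map_add (f := f) (g := g)) _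

lemma isQCoh_tensN {M : X.Modules} (hM : Coh.IsQCoh M) (N : ModuleCat.{u} A) : Coh.IsQCoh ((tensN N).obj M) :=
  DQCoh.isQCoh_tensor hM (isQCoh_ofMod A X N)

/-- `s ⊗ n ↦ s ⊗ n` on sections -/
def pairBilA (V : X.Opens) (M : X.Modules) (N : ModuleCat.{u} A) :
    ((secA A V).obj M : Type u) →ₗ[A] (N : Type u) →ₗ[A] ((secA A V).obj ((tensN N).obj M) : Type u) :=
  LinearMap.mk₂ A (fun s n => (TMul.tm (show Γ(M, V) from s) (unitSec A V N n) :))
    (fun s s' n => TMul.tm_add _ _ _)
    (fun a s n => TMul.smul_tm (secRing A V a) _ _)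
    (fun s n n' => (congrArg (TMul.tm (show Γ(M, V) from s)) (W7Cech.unitSec_add A V N n n')).trans (TMul.add_tm _ _ _))
    (fun a s n => (congrArg (TMul.tm (show Γ(M, V) from s)) (W7Cech.unitSec_smul A V N a n)).trans (TMul.tm_smul _ _ _))

/-- the pairing on sections -/
def pairA (V : X.Opens) (M : X.Modules) (N : ModuleCat.{u} A) :
    (secA A V).obj M ⊗ N ⟶ (secA A V).obj ((tensN N).obj M) :=
  ModuleCat.ofHom (Y := ((secA A V).obj ((tensN N).obj M) : Type u)) (TensorProduct.lift (pairBilA V M N))

lemma pairA_tmul (V : X.Opens) (M : X.Modules) (N : ModuleCat.{u} A) (s : Γ(M, V)) (n : N) :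
    (pairA V M N).hom ((show (secA A V).obj M from s) ⊗ₜ[A] n) = (TMul.tm s (unitSec A V N n) : Γ((tensN N).obj M, V)) :=
  TensorProduct.lift.tmul _ _

lemma pairA_natural₁ (V : X.Opens) {M M' : X.Modules} (φ : M ⟶ M') (N : ModuleCat.{u} A) :
    (secA A V).map φ ▷ N ≫ pairA V M' N = pairA V M N ≫ (secA A V).map ((tensN N).map φ) :=
  ModuleCat.MonoidalCategory.tensor_ext fun (s : Γ(M, V)) n => by
    refine (pairA_tmul V M' N (φ.app V s) n).trans ?_
    refine ((TorBC.tm_map_left φ s (unitSec A V N n)).symm.trans ?_)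
    exact (congrArg (((tensN N).map φ).app V) (pairA_tmul V M N s n)).symm

lemma pairA_natural₂ (V : X.Opens) (M : X.Modules) {N N' : ModuleCat.{u} A} (g : N ⟶ N') :
    (secA A V).obj M ◁ g ≫ pairA V M N' =
      pairA V M N ≫ (secA A V).map (((DCoh.tensorBi (X := X)).obj M).map ((ofMod A X).map g)) :=
  ModuleCat.MonoidalCategory.tensor_ext fun (s : Γ(M, V)) n => by
    refine (pairA_tmul V M N' s (g.hom n)).trans ?_
    refine (congrArg (TMul.tm s) (W7Cech.map_unitSec A V g n).symm).trans ?_
    refine ((TorBC.tm_map_right ((ofMod A X).map g) s (unitSec A V N n)).symm.trans ?_)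
    exact (congrArg ((((DCoh.tensorBi (X := X)).obj M).map ((ofMod A X).map g)).app V) (pairA_tmul V M N s n)).symm

/-- the pairing as a natural transformation -/
def pairNat (V : X.Opens) (N : ModuleCat.{u} A) : secA A V ⋙ tensorRight N ⟶ tensN N ⋙ secA A V where
  app M := pairA V M N
  naturality _ _ φ := pairA_natural₁ V φ N

lemma pairA_res {V V' : X.Opens} (h : V' ≤ V) (M : X.Modules) (N : ModuleCat.{u} A) :
    resA (A := A) h M ▷ N ≫ pairA V' M N = pairA V M N ≫ resA (A := A) h ((tensN N).obj M) :=
  ModuleCat.MonoidalCategory.tensor_ext fun (s : Γ(M, V)) n => by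
    refine (pairA_tmul V' M N (QC.res M h s) n).trans ?_
    refine Eq.trans ?_ (congrArg (QC.res ((tensN N).obj M) h) (pairA_tmul V M N s n)).symm
    refine Eq.trans ?_ (TMul.res_tm h _ _).symm
    exact congrArg (TMul.tm (QC.res M h s)) (W7Cech.res_unitSec A h N n).symm

/-- on affine opens the pairing is an isomorphism -/
theorem isIso_pairA {V : X.Opens} (hV : IsAffineOpen V) {M : X.Modules} (hM : Coh.IsQCoh M) (N : ModuleCat.{u} A) :
    IsIso (pairA V M N) := by
  haveI : IsIso (TMul.commHom ((ofMod A X).obj N) M) := (TMul.commIso _ _).isIso_hom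
  have e : ∀ z, (pairA V M N).hom z =
      (TMul.commHom ((ofMod A X).obj N) M).app V (W7Cech.pairing A V (F := M) N z) := by
    intro z
    induction z using TensorProduct.induction_on with
    | zero => exact (map_zero _).trans ((congrArg _ (map_zero _)).trans (map_zero _)).symm
    | tmul s n =>
      exact (pairA_tmul V M N s n).trans ((congrArg _ (W7Cech.pairing_tmul A V N s n)).trans (TMul.commHom_tm _ _)).symm
    | add p q hp hq =>
      exact (map_add _ p q).trans ((congrArg₂ (· + ·) hp hq).trans ((congrArg _ (map_add _ p q)).trans (map_add _ _ _)).symm)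
  rw [ConcreteCategory.isIso_iff_bijective]
  refine (congrArg Function.Bijective (funext e)).mpr ?_
  exact (ConcreteCategory.bijective_of_isIso ((TMul.commHom ((ofMod A X).obj N) M).app V)).comp
    (W7Cech.pairing_bijective A V hV hM N)

lemma bijective_res_of_pair {V V' : X.Opens} (h : V' ≤ V) (M : X.Modules) (N : ModuleCat.{u} A)
    [IsIso (pairA V M N)] [IsIso (pairA V' M N)] (hM : Function.Bijective (QC.res M h)) :
    Function.Bijective (QC.res ((tensN N).obj M) h) := by
  haveI := isIso_resA (A := A) h M hM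
  haveI : IsIso (resA (A := A) h ((tensN N).obj M)) := IsIso.of_isIso_fac_left (pairA_res h M N).symm
  exact ConcreteCategory.bijective_of_isIso (resA (A := A) h ((tensN N).obj M))

variable [X.IsSeparated]

/-- tensor products of pushed forward modules are pushed forward -/
theorem isIso_η_tensN {U : X.Opens} (hU : IsAffineOpen U) {G : X.Modules} (hG : Coh.IsQCoh G) (N : ModuleCat.{u} A) :
    IsIso ((η U).app ((tensN N).obj ((J U).obj G))) := by
  have hM : Coh.IsQCoh ((J U).obj G) := isQCoh_J hU hG
  have hM' := isQCoh_tensN hM N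
  refine QC.isIso_of_restrict_cover (fun O : {O : X.Opens // IsAffineOpen O} => O.2.fromSpec) (fun x => ?_) _ fun O =>
    isIso_restrict_of_bijective O.2 hM' (isQCoh_J hU hM') _ ?_
  · obtain ⟨_, ⟨O, hO, rfl⟩, hxO, -⟩ := X.isBasis_affineOpens.exists_subset_of_mem_open (Set.mem_univ x) isOpen_univ
    exact ⟨⟨O, hO⟩, hO.range_fromSpec.symm ▸ hxO⟩
  haveI := isIso_pairA O.2 hM N
  haveI := isIso_pairA (hU.inf O.2) hM N
  have hb := bijective_res_of_pair (inf_le_right : U ⊓ O.1 ≤ O.1) ((J U).obj G) N
    (bijective_res_J U G inf_le_right le_rfl)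
  rw [Scheme.Modules.restrictAdjunction_unit_app_app]
  have heq : U.ι ''ᵁ (U.ι ⁻¹ᵁ O.1) = U ⊓ O.1 := image_preimage _ _
  have hf := (bijective_map_of_eq ((tensN N).obj ((J U).obj G)) heq.le heq.ge).comp hb
  refine (congrArg Function.Bijective ?_).mp hf
  funext s
  exact QC.res_res (M := (tensN N).obj ((J U).obj G)) _ _ s

/-- tensor products of pieces have no higher cohomology -/
theorem Piece.noHigher_tensN {Φ : X.Modules → Prop} (hΦ : Stable Φ) {l : List X.Opens}
    (hl : ∀ V ∈ l, IsAffineOpen V) (N : ModuleCat.{u} A) {M : X.Modules} (hM : Piece Φ l M) :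
    NoHigher ((tensN N).obj M) := by
  induction hM with
  | zero h => exact noHigher_of_isZero ((tensN N).map_isZero h)
  | @base G V hV h' =>
    haveI := isIso_η_tensN (hl V hV) (hΦ.qcoh h') N
    exact noHigher_of_iso (@asIso _ _ _ _ ((η V).app ((tensN N).obj ((J V).obj G))) this).symm
      (noHigher_J (hl V hV) (isQCoh_tensN (isQCoh_J (hl V hV) (hΦ.qcoh h')) N))
  | biprod _ _ ih ih' =>
    haveI := preservesBinaryBiproducts_of_preservesBiproducts (tensN (X := X) N)
    exact noHigher_of_iso ((tensN N).mapBiprod _ _).symm (noHigher_biprod ih ih')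
  | of_iso e _ ih => exact noHigher_of_iso ((tensN N).mapIso e) ih

/-- on pieces the pairing of global sections is an isomorphism -/
theorem Piece.isIso_pairA_top {Φ : X.Modules → Prop} (hΦ : Stable Φ) {l : List X.Opens}
    (hl : ∀ V ∈ l, IsAffineOpen V) (N : ModuleCat.{u} A) {M : X.Modules} (hM : Piece Φ l M) :
    IsIso (pairA (⊤ : X.Opens) M N) := by
  induction hM with
  | zero h => exact isIso_app_of_isZero (pairNat (⊤ : X.Opens) N) h
  | @base G V hV h' =>
    haveI := isIso_η_tensN (hl V hV) (hΦ.qcoh h') N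
    haveI := isIso_pairA (hl V hV) (isQCoh_J (hl V hV) (hΦ.qcoh h')) N
    have h₁ : Function.Bijective (QC.res ((J V).obj G) (le_top : V ≤ ⊤)) := bijective_res_J V G le_top inf_le_left
    have h₂ : Function.Bijective (QC.res ((tensN N).obj ((J V).obj G)) (le_top : V ≤ ⊤)) := by
      have hb : Function.Bijective (((η V).app ((tensN N).obj ((J V).obj G))).app ⊤) :=
        ConcreteCategory.bijective_of_isIso _
      rw [Scheme.Modules.restrictAdjunction_unit_app_app] at hb
      have heq : V.ι ''ᵁ (V.ι ⁻¹ᵁ ⊤) = V := (image_preimage _ _).trans (inf_eq_left.2 le_top)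
      refine (congrArg Function.Bijective ?_).mp ((bijective_map_of_eq _ heq.ge heq.le).comp hb)
      funext s
      exact QC.res_res (M := (tensN N).obj ((J V).obj G)) _ _ s
    haveI := isIso_resA (A := A) (le_top : V ≤ ⊤) _ h₁
    haveI := isIso_resA (A := A) (le_top : V ≤ ⊤) _ h₂
    exact IsIso.of_isIso_fac_right (pairA_res (le_top : V ≤ ⊤) ((J V).obj G) N).symm
  | @biprod M M' _ _ ih ih' =>
    haveI : IsIso ((pairNat (⊤ : X.Opens) N).app M) := ih
    haveI : IsIso ((pairNat (⊤ : X.Opens) N).app M') := ih'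
    exact isIso_app_biprod (pairNat (⊤ : X.Opens) N) M M'
  | of_iso e _ ih =>
    haveI : IsIso ((pairNat (⊤ : X.Opens) N).app _) := ih
    exact isIso_app_of_iso (pairNat (⊤ : X.Opens) N) e

end Groth.Agent.HTorBC
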