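import Groth.Agent.HTorBC.KunnBC
import Groth.Agent.KFlat.LpullComp
import Groth.Agent.DerPush.Basic
import Groth.Prelude.Def_HTor

/-!
The Künneth formula over an arbitrary base, in derived form.
-/

set_option autoImplicit false
set_option backward.isDefEq.respectTransparency false
set_option backward.isDefEq.respectTransparency.types false
set_option linter.style.haveILetI false
set_option linter.unusedSectionVars false

universe u

open CategoryTheory Limits AlgebraicGeometry HomologicalComplex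

attribute [local instance] HasDerivedCategory.standard

namespace Groth.Agent.HTorBC

open Groth.Agent.KFlat Groth.Agent.ProjForm Groth.Agent.TorBC

/-- derived direct images of equal morphisms -/
lemma nonempty_rpush_congr {X S : Scheme.{u}} {g g' : X ⟶ S} (e : g = g') [DCoh.HasRpush g] [DCoh.HasRpush g'] :
    Nonempty (DCoh.Rpush g ≅ DCoh.Rpush g') := by
  subst e
  exact ⟨Iso.refl _⟩

/-- derived direct images of composites -/
lemma nonempty_rpush_comp {X Y Z : Scheme.{u}} (f : X ⟶ Y) (g : Y ⟶ Z)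
    [DCoh.HasRpush f] [DCoh.HasRpush g] [DCoh.HasRpush (f ≫ g)] :
    Nonempty (DCoh.Rpush f ⋙ DCoh.Rpush g ≅ DCoh.Rpush (f ≫ g)) := by
  have := KFlat.hasLpull f
  have := KFlat.hasLpull g
  have := KFlat.hasLpull (f ≫ g)
  obtain ⟨a₁⟩ := DerPush.nonempty_lpull_adj_rpush f
  obtain ⟨a₂⟩ := DerPush.nonempty_lpull_adj_rpush g
  obtain ⟨a⟩ := DerPush.nonempty_lpull_adj_rpush (f ≫ g)
  obtain ⟨e⟩ := KFlat.Lpull_comp_sch f g
  exact ⟨((a₂.comp a₁).ofNatIsoLeft e).rightAdjointUniq a⟩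

variable {X₁ X₂ X S : Scheme.{u}} {f₁ : X₁ ⟶ S} {f₂ : X₂ ⟶ S} {p : X ⟶ X₁} {q : X ⟶ X₂}

/-- **Künneth formula** over an arbitrary base -/
theorem nonempty_kunneth (H : IsPullback p q f₁ f₂) [QuasiCompact f₁] [QuasiSeparated f₁]
    [QuasiCompact f₂] [QuasiSeparated f₂] [DCoh.HasRpush f₁] [DCoh.HasRpush f₂] [DCoh.HasRpush (p ≫ f₁)]
    (P₁ : CochainComplex X₁.Modules ℤ) (P₂ : CochainComplex X₂.Modules ℤ)
    (hq₁ : ∀ i : ℤ, Coh.IsQCoh (P₁.X i)) (hq₂ : ∀ i : ℤ, Coh.IsQCoh (P₂.X i))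
    (b : ℤ) (hb : ∀ i : ℤ, b < i → IsZero (P₁.X i)) (hfl : ∀ i : ℤ, FlatMod.IsFlatOver f₁ (P₁.X i))
    (E₂ : CochainComplex S.Modules ℤ) (hE₂ : Nonempty (DCoh.toD S E₂ ≅ (DCoh.Rpush f₂).obj (DCoh.toD X₂ P₂)))
    [DCoh.HasLTensorCx E₂] :
    Nonempty ((DCoh.Rpush (p ≫ f₁)).obj (DerivedCategory.Q.obj ((DCoh.tensorCx.obj ((qC p).obj P₁)).obj ((qC q).obj P₂))) ≅
      (DCoh.LTensorCx E₂).obj ((DCoh.Rpush f₁).obj (DerivedCategory.Q.obj P₁))) := by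
  haveI : QuasiCompact q := MorphismProperty.of_isPullback H ‹QuasiCompact f₁›
  haveI : QuasiSeparated q := MorphismProperty.of_isPullback H ‹QuasiSeparated f₁›
  haveI := DerPush.hasRpush_sch q
  haveI := DerPush.hasRpush_sch (q ≫ f₂)
  haveI := KFlat.hasLpull q
  haveI := KFlat.hasLpull f₂
  obtain ⟨ecomp⟩ := nonempty_rpush_comp q f₂
  obtain ⟨econg⟩ := nonempty_rpush_congr (g := p ≫ f₁) (g' := q ≫ f₂) H.w
  let A₁ := (qC p).obj P₁
  have hAq : ∀ i, Coh.IsQCoh (A₁.X i) := fun i => QC.isQCoh_pullback p (hq₁ i)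
  have hAb : ∀ i, b < i → IsZero (A₁.X i) := fun i hi => (Scheme.Modules.pullback p).map_isZero (hb i hi)
  have hAfl : ∀ i, FlatMod.IsFlatOver q (A₁.X i) := fun i x =>
    FlatModBC.isFlatOverAt_baseChange H (P₁.X i) x (hfl i _)
  let K := (resF X₂).obj P₂
  let ρ := (resψ X₂).app P₂
  have hK : DCoh.IsKFlat K := isKFlat_resF P₂
  have hKq : DCoh.IsQCohD (DCoh.toD X₂ K) := fun i => QC.isQCoh_of_iso
    ((DerivedCategory.homologyFunctor _ i).mapIso (asIso (DerivedCategory.Q.map ρ))).symm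
    (DQPush.isQCohD_Q P₂ hq₂ i)
  let M₁ := (qC q).obj K
  have hM₁ : DCoh.IsKFlat M₁ := isKFlat_pullback q hK
  haveI := KFlat.hasLTensorCx M₁
  haveI := KFlat.hasLTensorCx K
  haveI : QuasiIso ((DCoh.tensorCx.obj A₁).map ((qC q).map ρ)) := quasiIso_tens_flatPull q ρ b hAb hAfl
  -- the external product as a derived tensor product
  let eT : DerivedCategory.Q.obj ((DCoh.tensorCx.obj A₁).obj ((qC q).obj P₂)) ≅
      (DCoh.LTensorCx M₁).obj (DerivedCategory.Q.obj A₁) :=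
    (asIso (DerivedCategory.Q.map ((DCoh.tensorCx.obj A₁).map ((qC q).map ρ)))).symm ≪≫
      (ltIsoOfKFlat hM₁ A₁).symm
  -- projection formula for `q`
  obtain ⟨pf₁⟩ := nonempty_projFormula q (DerivedCategory.Q.obj A₁) (DQPush.isQCohD_Q A₁ hAq) K hKq M₁
    ⟨(ProjForm.lpullIso q hK).symm⟩
  -- base change
  obtain ⟨bc⟩ := nonempty_baseChange_cx H P₁ hq₁ b hb hfl
  obtain ⟨A₀, hA₀, -, ⟨ε⟩⟩ := KFlat.exists_isKFlat_rep ((DCoh.Rpush f₁).obj (DerivedCategory.Q.obj P₁))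
  let M₂ := (qC f₂).obj A₀
  have hM₂ : DCoh.IsKFlat M₂ := isKFlat_pullback f₂ hA₀
  haveI := KFlat.hasLTensorCx M₂
  haveI := KFlat.hasLTensorCx A₀
  have hA₀q : DCoh.IsQCohD (DCoh.toD S A₀) := fun i => QC.isQCoh_of_iso
    ((DerivedCategory.homologyFunctor _ i).mapIso ε).symm
    (DQPush.isQCohD_rpush f₁ (DQPush.isQCohD_Q P₁ hq₁) i)
  -- projection formula for `f₂`
  obtain ⟨pf₂⟩ := nonempty_projFormula f₂ (DerivedCategory.Q.obj K) hKq A₀ hA₀q M₂ ⟨(ProjForm.lpullIso f₂ hA₀).symm⟩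
  obtain ⟨e₂⟩ := hE₂
  -- the middle symmetry
  let eM : (DCoh.LTensorCx K).obj ((DCoh.Rpush q).obj (DerivedCategory.Q.obj A₁)) ≅
      (DCoh.LTensorCx M₂).obj (DerivedCategory.Q.obj K) :=
    (DCoh.LTensorCx K).mapIso (bc.symm ≪≫ (DCoh.Lpull f₂).mapIso ε.symm ≪≫ ProjForm.lpullIso f₂ hA₀) ≪≫
      ltIsoOfKFlat hK M₂ ≪≫ DerivedCategory.Q.mapIso (swapIso (braid X₂.sheaf) M₂ K) ≪≫
      (ltIsoOfKFlat hM₂ K).symm
  exact ⟨econg.app _ ≪≫ (ecomp.app _).symm ≪≫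
    (DCoh.Rpush f₂).mapIso ((DCoh.Rpush q).mapIso eT ≪≫ pf₁.symm ≪≫ eM) ≪≫ pf₂.symm ≪≫
    (DCoh.LTensorCx A₀).mapIso
      ((DCoh.Rpush f₂).mapIso (asIso (DerivedCategory.Q.map ρ)) ≪≫ e₂.symm) ≪≫
    ltIsoOfKFlat hA₀ E₂ ≪≫ DerivedCategory.Q.mapIso (swapIso (braid S.sheaf) E₂ A₀) ≪≫
    (ltIso E₂ hA₀).symm ≪≫ (DCoh.LTensorCx E₂).mapIso ε⟩

end Groth.Agent.HTorBC
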