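import Groth.Agent.TildeTensor.Basic
import Groth.Agent.TMul.Assoc
import Groth.Agent.QC.OmegaAffineSect
import Groth.Agent.QC.Sections
import Groth.Agent.TorBC.Act

/-!
Sections of a tensor product of quasi-coherent modules over an affine open.
-/

set_option autoImplicit false
set_option backward.isDefEq.respectTransparency false
set_option backward.isDefEq.respectTransparency.types false
set_option linter.style.haveILetI false
set_option maxHeartbeats 1000000

universe u

open CategoryTheory CategoryTheory.Limits AlgebraicGeometry TopologicalSpace Opposite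
open Groth.Agent.QC (res resO res_res res_smul app_res res_self resO_self)
open scoped TensorProduct

noncomputable section

namespace Groth.Agent.HTorBC

variable {R : CommRingCat.{u}}

/-- scalars on global sections of `Spec R` -/
lemma smul_top (N : (Spec R).Modules) (r : R) (s : Γ(N, ⊤)) :
    (r • (show (modulesSpecToSheaf.obj N).presheaf.obj (op ⊤) from s)) =
      ((Scheme.ΓSpecIso R).inv.hom r • s : Γ(N, ⊤)) := by
  change (((Spec R).presheaf.map (⊤ : (Spec R).Opens).leTop.op).hom ((Scheme.ΓSpecIso R).inv.hom r)) • s = _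
  rw [show ((Spec R).presheaf.map (⊤ : (Spec R).Opens).leTop.op) = 𝟙 _ from (Spec R).presheaf.map_id _]
  rfl

/-- On an affine scheme: global sections of a tensor product, with the pairing. -/
theorem exists_beta {M N : (Spec R).Modules} (hM : Coh.IsQCoh M) (hN : Coh.IsQCoh N) :
    ∃ Φ : ((modulesSpecToSheaf.obj M).presheaf.obj (op ⊤) : Type u) ⊗[R]
        ((modulesSpecToSheaf.obj N).presheaf.obj (op ⊤) : Type u) →+ Γ(CohB1.tensorMod M N, ⊤),
      Function.Bijective Φ ∧ ∀ (m : Γ(M, ⊤)) (n : Γ(N, ⊤)), Φ (m ⊗ₜ n) = TMul.tm m n := by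
  haveI : M.IsQuasicoherent := hM
  haveI : N.IsQuasicoherent := hN
  let M₀ := (modulesSpecToSheaf.obj M).presheaf.obj (op ⊤)
  let N₀ := (modulesSpecToSheaf.obj N).presheaf.obj (op ⊤)
  haveI := TildeTensor.isIso_comp M₀ N₀
  let a := (QC.isoTildeΓ M).hom
  let b := (QC.isoTildeΓ N).hom
  let ψ : CohB1.tensorMod (tilde M₀) (tilde N₀) ⟶ CohB1.tensorMod M N :=
    ((KFlat.schB (Spec R)).map a).app (tilde N₀) ≫ ((KFlat.schB (Spec R)).obj M).map b
  haveI : IsIso ψ := inferInstance
  let Φ : (M₀ : Type u) ⊗[R] (N₀ : Type u) →+ Γ(CohB1.tensorMod M N, ⊤) :=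
    (((TildeTensor.comp M₀ N₀ ≫ ψ).app ⊤).hom.comp
      (tilde.toOpen (ModuleCat.of R ((M₀ : Type u) ⊗[R] (N₀ : Type u))) ⊤).hom.toAddMonoidHom :)
  refine ⟨Φ, (ConcreteCategory.bijective_of_isIso ((TildeTensor.comp M₀ N₀ ≫ ψ).app ⊤)).comp
    (ConcreteCategory.bijective_of_isIso (tilde.toOpen (ModuleCat.of R ((M₀ : Type u) ⊗[R] (N₀ : Type u))) ⊤)),
    fun m n => ?_⟩
  refine (congrArg (ψ.app ⊤) ((TildeTensor.comp_app_toOpen M₀ N₀ (m ⊗ₜ n)).trans (TensorProduct.lift.tmul _ _))).trans ?_
  have ha : a.app ⊤ (TildeTensor.sec M₀ m) = m := by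
    refine (congrArg (a.app ⊤) (QC.isoTildeΓ_inv_app_top M m).symm).trans ?_
    exact congr(($((QC.isoTildeΓ M).inv_hom_id)).app ⊤ m)
  have hb : b.app ⊤ (TildeTensor.sec N₀ n) = n := by
    refine (congrArg (b.app ⊤) (QC.isoTildeΓ_inv_app_top N n).symm).trans ?_
    exact congr(($((QC.isoTildeΓ N).inv_hom_id)).app ⊤ n)
  refine (congrArg ((((KFlat.schB (Spec R)).obj M).map b).app ⊤)
    (TorBC.tm_map_left (B := tilde N₀) a (TildeTensor.sec M₀ m) (TildeTensor.sec N₀ n))).trans ?_
  refine (TorBC.tm_map_right b (a.app ⊤ (TildeTensor.sec M₀ m)) (TildeTensor.sec N₀ n)).trans ?_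
  rw [ha, hb]
  rfl

variable {X : Scheme.{u}} {V : X.Opens} (hV : IsAffineOpen V)

include hV in
/-- **Sections of a tensor product over an affine open.** -/
theorem bijective_tt {M N : X.Modules} (hM : Coh.IsQCoh M) (hN : Coh.IsQCoh N) :
    Function.Bijective (TMul.tt M N V) := by
  let j := hV.fromSpec
  let P := Scheme.Modules.pullback j
  have hle : (⊤ : (Spec Γ(X, V)).Opens) ≤ j ⁻¹ᵁ V := hV.fromSpec_preimage_self.ge
  let ρ : ∀ (M : X.Modules), Γ(M, V) →+ Γ(P.obj M, ⊤) := fun M =>
    { toFun := fun m => res (P.obj M) hle (OmegaSh.pullSect j M V m)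
      map_zero' := by rw [map_zero, map_zero]
      map_add' := fun a b => by rw [map_add, map_add] }
  have hρ : ∀ M, Function.Bijective (ρ M) := fun M => by
    have him : j ''ᵁ ⊤ = V := QC.image_fromSpec_top hV
    have htop : (⊤ : (Spec Γ(X, V)).Opens) ≤ j ⁻¹ᵁ (j ''ᵁ ⊤) := by rw [him]; exact hle
    let e : Γ(M, V) → Γ(M, j ''ᵁ ⊤) := res M him.le
    have he : Function.Bijective e :=
      ⟨fun a b h => by
        have h' := congrArg (res M him.ge) h
        simp only [e, res_res, res_self] at h'
        exact h', fun c => ⟨res M him.ge c, by simp only [e, res_res, res_self]⟩⟩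
    refine (congrArg Function.Bijective (funext fun m => ?_)).mp ((QC.bijective_res_pullSect j M htop).comp he)
    change res (P.obj M) htop (OmegaSh.pullSect j M (j ''ᵁ ⊤) (res M him.le m)) = res (P.obj M) hle (OmegaSh.pullSect j M V m)
    rw [show OmegaSh.pullSect j M (j ''ᵁ ⊤) (res M him.le m) =
      res (P.obj M) (j.preimage_mono him.le) (OmegaSh.pullSect j M V m) from KFlat.pullSec_res j M him.le m, res_res]
  have hsmul : ∀ (M : X.Modules) (c : Γ(X, V)) (m : Γ(M, V)),
      ρ M (c • m) = (Scheme.ΓSpecIso Γ(X, V)).inv.hom c • ρ M m := fun M c m => by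
    change res (P.obj M) hle (OmegaSh.pullSect j M V (c • m)) = _
    rw [OmegaSh.pullSect_smul, res_smul]
    congr 1
    change (((j.app V) ≫ (Spec Γ(X, V)).presheaf.map (homOfLE hle).op).hom c) = _
    rw [hV.fromSpec_app_self, Category.assoc, ← Functor.map_comp,
      Subsingleton.elim ((eqToHom hV.fromSpec_preimage_self).op ≫ (homOfLE hle).op) (𝟙 _),
      CategoryTheory.Functor.map_id, Category.comp_id]
  obtain ⟨Φ, hΦb, hΦ⟩ := exists_beta (M := P.obj M) (N := P.obj N) (QC.isQCoh_pullback j hM) (QC.isQCoh_pullback j hN)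
  let ω : Γ(CohB1.tensorMod M N, V) → Γ(CohB1.tensorMod (P.obj M) (P.obj N), ⊤) := fun z =>
    (KFlat.pullTensorHom j M N).app ⊤ (ρ _ z)
  have hω : Function.Bijective ω :=
    (ConcreteCategory.bijective_of_isIso ((KFlat.pullTensorHom j M N).app ⊤)).comp (hρ _)
  have hωtm : ∀ m n, ω (TMul.tm m n) = TMul.tm (ρ M m) (ρ N n) := fun m n => by
    refine (app_res (KFlat.pullTensorHom j M N) hle _).symm.trans ?_
    refine (congrArg (res _ hle) (KFlat.pullTensorHom_spec j M N V m n)).trans ?_
    exact TMul.res_tm hle _ _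
  -- the tensor of the two bijections
  let M₁ := (modulesSpecToSheaf.obj (P.obj M)).presheaf.obj (op ⊤)
  let N₁ := (modulesSpecToSheaf.obj (P.obj N)).presheaf.obj (op ⊤)
  let T : (M₁ : Type u) ⊗[Γ(X, V)] (N₁ : Type u) →+ Γ(M, V) ⊗[Γ(X, V)] Γ(N, V) :=
    TensorProduct.liftAddHom
      { toFun := fun a =>
          { toFun := fun b => (Equiv.ofBijective _ (hρ M)).symm a ⊗ₜ (Equiv.ofBijective _ (hρ N)).symm b
            map_zero' := by
              rw [show (Equiv.ofBijective _ (hρ N)).symm 0 = 0 from
                (Equiv.symm_apply_eq _).2 (map_zero (ρ N)).symm, TensorProduct.tmul_zero]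
            map_add' := fun b b' => by
              rw [show (Equiv.ofBijective _ (hρ N)).symm (b + b') = (Equiv.ofBijective _ (hρ N)).symm b +
                (Equiv.ofBijective _ (hρ N)).symm b' from (Equiv.symm_apply_eq _).2 (by
                  simp only [Equiv.ofBijective_apply, map_add, Equiv.ofBijective_apply_symm_apply]),
                TensorProduct.tmul_add] }
        map_zero' := AddMonoidHom.ext fun b => by
          change _ ⊗ₜ _ = 0
          rw [show (Equiv.ofBijective _ (hρ M)).symm 0 = 0 from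
            (Equiv.symm_apply_eq _).2 (map_zero (ρ M)).symm, TensorProduct.zero_tmul]
        map_add' := fun a a' => AddMonoidHom.ext fun b => by
          change _ ⊗ₜ _ = _ ⊗ₜ _ + _ ⊗ₜ _
          rw [show (Equiv.ofBijective _ (hρ M)).symm (a + a') = (Equiv.ofBijective _ (hρ M)).symm a +
            (Equiv.ofBijective _ (hρ M)).symm a' from (Equiv.symm_apply_eq _).2 (by
              simp only [Equiv.ofBijective_apply, map_add, Equiv.ofBijective_apply_symm_apply]),
            TensorProduct.add_tmul] }
      fun r a b => by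
        change (Equiv.ofBijective _ (hρ M)).symm (r • a) ⊗ₜ _ = _ ⊗ₜ (Equiv.ofBijective _ (hρ N)).symm (r • b)
        rw [show (Equiv.ofBijective _ (hρ M)).symm (r • a) = r • (Equiv.ofBijective _ (hρ M)).symm a from
            (Equiv.symm_apply_eq _).2 (by
              simp only [Equiv.ofBijective_apply, hsmul, Equiv.ofBijective_apply_symm_apply]
              exact smul_top (P.obj M) r a),
          show (Equiv.ofBijective _ (hρ N)).symm (r • b) = r • (Equiv.ofBijective _ (hρ N)).symm b from
            (Equiv.symm_apply_eq _).2 (by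
              simp only [Equiv.ofBijective_apply, hsmul, Equiv.ofBijective_apply_symm_apply]
              exact smul_top (P.obj N) r b),
          TensorProduct.smul_tmul]
  have hTs : Function.Surjective T := fun z => by
    induction z using TensorProduct.induction_on with
    | zero => exact ⟨0, map_zero T⟩
    | tmul m n =>
      refine ⟨ρ M m ⊗ₜ ρ N n, ?_⟩
      change (Equiv.ofBijective _ (hρ M)).symm (ρ M m) ⊗ₜ (Equiv.ofBijective _ (hρ N)).symm (ρ N n) = _
      rw [Equiv.ofBijective_symm_apply_apply, Equiv.ofBijective_symm_apply_apply]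
    | add p q hp hq =>
      obtain ⟨p', rfl⟩ := hp
      obtain ⟨q', rfl⟩ := hq
      exact ⟨p' + q', map_add T _ _⟩
  have key : ∀ w, ω (TMul.tt M N V (T w)) = Φ w := fun w => by
    induction w using TensorProduct.induction_on with
    | zero =>
      rw [map_zero, map_zero, map_zero]
      exact (congrArg ((KFlat.pullTensorHom j M N).app ⊤) (map_zero (ρ _))).trans (map_zero _)
    | tmul a b =>
      refine (hωtm _ _).trans ?_
      exact (congrArg₂ TMul.tm (Equiv.ofBijective_apply_symm_apply (ρ M) (hρ M) a)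
        (Equiv.ofBijective_apply_symm_apply (ρ N) (hρ N) b)).trans (hΦ a b).symm
    | add p q hp hq =>
      rw [map_add, map_add, map_add, ← hp, ← hq]
      exact (congrArg ((KFlat.pullTensorHom j M N).app ⊤) (map_add (ρ _) _ _)).trans (map_add _ _ _)
  have hTi : Function.Injective T := fun p q h => hΦb.1 (by rw [← key, ← key, h])
  have hc : Function.Bijective (fun w => ω (TMul.tt M N V (T w))) := (funext key) ▸ hΦb
  exact (Function.Bijective.of_comp_iff' hω _).1
    ((Function.Bijective.of_comp_iff _ ⟨hTi, hTs⟩).1 hc)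

end Groth.Agent.HTorBC
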