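import Mathlib.Algebra.Category.ModuleCat.ChangeOfRings
import Mathlib.RingTheory.Flat.Equalizer
import Mathlib.RingTheory.Flat.Tensor
import Mathlib.Algebra.Homology.Refinements
import Mathlib.Algebra.Category.ModuleCat.Abelian
import Mathlib.Algebra.Homology.ShortComplex.ModuleCat

/-!
Extension of scalars of bounded above acyclic complexes of flat modules.
-/

set_option autoImplicit false
set_option backward.isDefEq.respectTransparency false
set_option backward.isDefEq.respectTransparency.types false
set_option linter.style.haveILetI false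

universe u

open CategoryTheory CategoryTheory.Limits
open scoped TensorProduct

namespace Groth.Agent.HTorBC

variable {A B : Type u} [CommRing A] [CommRing B] (φ : A →+* B) (E : CochainComplex (ModuleCat.{u} A) ℤ)

lemma flat_ker {R M N P : Type u} [CommRing R] [AddCommGroup M] [Module R M] [AddCommGroup N] [Module R N]
    [AddCommGroup P] [Module R P] [Module.Flat R N] [Module.Flat R P] (f : M →ₗ[R] N) (g : N →ₗ[R] P)
    (hf : Function.Injective f) (hg : Function.Surjective g) (hfg : Function.Exact f g) : Module.Flat R M := by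
  rw [Module.Flat.iff_rTensor_injective']
  intro I
  have h1 := LinearMap.lTensor_injective_of_exact_of_flat g hg f hf hfg I
  have h2 := Module.Flat.rTensor_preserves_injective_linearMap (M := N) (I.subtype) (Submodule.injective_subtype I)
  refine Function.Injective.of_comp (f := f.lTensor R) ?_
  have he : f.lTensor R ∘ₗ I.subtype.rTensor M = I.subtype.rTensor N ∘ₗ f.lTensor I := by
    rw [LinearMap.lTensor_comp_rTensor, LinearMap.rTensor_comp_lTensor]
  rw [← LinearMap.coe_comp, he, LinearMap.coe_comp]
  exact h2.comp h1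

/-- cycles -/
abbrev cyc (n : ℤ) : Submodule A (E.X n) := LinearMap.ker (E.d n (n + 1)).hom

/-- the differential onto cycles -/
noncomputable abbrev toCyc (n : ℤ) : (E.X n : Type u) →ₗ[A] cyc E (n + 1) :=
  LinearMap.codRestrict _ (E.d n (n + 1)).hom fun x => by
    change (E.d n (n + 1) ≫ E.d (n + 1) (n + 1 + 1)).hom x = 0
    rw [E.d_comp_d]
    rfl

variable (hE : E.Acyclic) (hflat : ∀ n, Module.Flat A (E.X n)) (b : ℤ) (hb : ∀ n, b < n → IsZero (E.X n))

include hE in
lemma surjective_toCyc (n : ℤ) : Function.Surjective (toCyc E n) := by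
  rintro ⟨x, hx⟩
  have h := hE (n + 1)
  rw [E.exactAt_iff' n (n + 1) (n + 1 + 1) (by simp) (by simp), ShortComplex.moduleCat_exact_iff] at h
  obtain ⟨y, hy⟩ := h x hx
  exact ⟨y, Subtype.ext hy⟩

lemma exact_cyc (n : ℤ) : Function.Exact (cyc E n).subtype (toCyc E n) := fun x => by
  constructor
  · intro h
    exact ⟨⟨x, congrArg Subtype.val h⟩, rfl⟩
  · rintro ⟨⟨y, hy⟩, rfl⟩
    exact Subtype.ext hy

include hE hflat hb in
lemma flat_cyc (n : ℤ) : Module.Flat A (cyc E n) := by
  suffices ∀ (k : ℕ) (m : ℤ), b + 1 - k ≤ m → Module.Flat A (cyc E m) from this (b + 1 - n).toNat n (by omega)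
  intro k
  induction k with
  | zero =>
    intro m hm
    haveI := ModuleCat.subsingleton_of_isZero (hb m (by omega))
    infer_instance
  | succ k ih =>
    intro m hm
    haveI := ih (m + 1) (by omega)
    haveI := hflat m
    exact flat_ker (cyc E m).subtype (toCyc E m) Subtype.val_injective (surjective_toCyc E hE m) (exact_cyc E m)

include hE hflat hb in
/-- base change of a bounded above acyclic complex of flat modules is acyclic -/
theorem acyclic_extendScalars :
    (((ModuleCat.extendScalars.{u, u, u} φ).mapHomologicalComplex (ComplexShape.up ℤ)).obj E).Acyclic := by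
  intro i
  obtain ⟨n, rfl⟩ : ∃ n, i = n + 1 := ⟨i - 1, by omega⟩
  rw [HomologicalComplex.exactAt_iff' _ n (n + 1) (n + 1 + 1) (by simp) (by simp), ShortComplex.moduleCat_exact_iff]
  intro x hx
  let Bm : ModuleCat.{u} A := (ModuleCat.restrictScalars φ).obj (ModuleCat.of B B)
  let d₁ : (E.X n : Type u) →ₗ[A] E.X (n + 1) := (E.d n (n + 1)).hom
  let d₂ : (E.X (n + 1) : Type u) →ₗ[A] E.X (n + 1 + 1) := (E.d (n + 1) (n + 1 + 1)).hom
  have e : ∀ {M N : ModuleCat.{u} A} (g : M ⟶ N) (y : (ModuleCat.extendScalars.{u, u, u} φ).obj M),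
      (show Bm ⊗[A] N from ((ModuleCat.extendScalars.{u, u, u} φ).map g).hom y) =
        g.hom.lTensor Bm (show Bm ⊗[A] M from y) := by
    intro M N g y
    refine TensorProduct.induction_on (R := A) (motive := fun y => (show Bm ⊗[A] N from
      ((ModuleCat.extendScalars.{u, u, u} φ).map g).hom y) = g.hom.lTensor Bm y)
      (show Bm ⊗[A] M from y) ?_ ?_ ?_
    · exact (map_zero _).trans (map_zero _).symm
    · exact fun s m => rfl
    · exact fun p q hp hq => (map_add _ p q).trans ((congrArg₂ (· + ·) hp hq).trans (map_add _ p q).symm)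
  have hx' : d₂.lTensor Bm x = 0 := (e _ x).symm.trans hx
  have hfac : d₂ = (cyc E (n + 1 + 1)).subtype.comp (toCyc E (n + 1)) := rfl
  haveI := flat_cyc E hE hflat b hb (n + 1 + 1 + 1)
  have hinj : Function.Injective ((cyc E (n + 1 + 1)).subtype.lTensor Bm) :=
    LinearMap.lTensor_injective_of_exact_of_flat (toCyc E (n + 1 + 1)) (surjective_toCyc E hE _) _
      Subtype.val_injective (exact_cyc E _) Bm
  rw [hfac, LinearMap.lTensor_comp, LinearMap.comp_apply, ← map_zero ((cyc E (n + 1 + 1)).subtype.lTensor Bm)] at hx'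
  obtain ⟨z, hz⟩ := (lTensor_exact Bm (exact_cyc E (n + 1)) (surjective_toCyc E hE (n + 1)) x).1 (hinj hx')
  obtain ⟨y, hy⟩ := LinearMap.lTensor_surjective Bm (surjective_toCyc E hE n) z
  refine ⟨y, (e _ y).trans ?_⟩
  change d₁.lTensor Bm y = x
  have h1 : d₁ = (cyc E (n + 1)).subtype.comp (toCyc E n) := rfl
  rw [h1, LinearMap.lTensor_comp, LinearMap.comp_apply, hy, hz]

end Groth.Agent.HTorBC
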