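import Groth.Agent.HTorBC.BaseChange
import Groth.Agent.S9353
import Groth.Agent.DRingKP.BC
import Groth.Agent.PerfLocal.Perfect

/-!
Base change of derived global sections of flat quasi-coherent complexes.
-/

set_option autoImplicit false
set_option backward.isDefEq.respectTransparency false
set_option backward.isDefEq.respectTransparency.types false
set_option linter.style.haveILetI false
set_option linter.unusedSectionVars false
set_option maxHeartbeats 1000000

universe u

open CategoryTheory CategoryTheory.Limits AlgebraicGeometry TopologicalSpace Opposite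

attribute [local instance] HasDerivedCategory.standard

noncomputable section

namespace Groth.Agent.HTorBC

open Groth.Agent.W7Cech (secA secRing)

variable {A : Type u} [CommRing A] {X : Scheme.{u}} [X.Over (Spec (CommRingCat.of A))]

/-- global sections in the two normalisations -/
def gamSecIso : secA A (⊤ : X.Opens) ≅ gam A :=
  NatIso.ofComponents (fun M => LinearEquiv.toModuleIso
    ({ AddEquiv.refl Γ(M, ⊤) with
        map_smul' := fun a s => by
          refine congrArg (fun c : Γ(X, ⊤) => c • (show Γ(M, ⊤) from s)) ?_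
          exact QC.resO_self le_rfl _ } : ((secA A (⊤ : X.Opens)).obj M : Type u) ≃ₗ[A] ((gam A).obj M : Type u)))
    fun φ => rfl

lemma flatSec_of_isFlatOver (M : X.Modules) (hq : Coh.IsQCoh M)
    (hfl : FlatMod.IsFlatOver (X ↘ Spec (CommRingCat.of A)) M) : FlatSec (A := A) M := by
  refine ⟨hq, fun V hV => ?_⟩
  have h := (Groth.Agent.S9353.result (X ↘ Spec (CommRingCat.of A)) M hq).1 hfl V ⊤ le_top hV (isAffineOpen_top _)
  let S := Γ(Spec (CommRingCat.of A), ⊤)
  letI : Module S ((secA A V).obj M) := Module.compHom (M.val.obj (op V)) ((X ↘ Spec (CommRingCat.of A)).appLE ⊤ V le_top).hom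
  haveI : Module.Flat S ((secA A V).obj M) := h
  letI : Algebra A S := (Scheme.ΓSpecIso (CommRingCat.of A)).inv.hom.toAlgebra
  haveI : Module.Flat A S :=
    Module.Flat.of_linearEquiv (R := A) (M := A)
      (LinearEquiv.ofBijective (Algebra.linearMap A S)
        (ConcreteCategory.bijective_of_isIso (Scheme.ΓSpecIso (CommRingCat.of A)).inv)).symm
  haveI : IsScalarTower A S ((secA A V).obj M) := IsScalarTower.of_algebraMap_smul fun a s => rfl
  exact Module.Flat.trans A S _

lemma exists_affine_list (X : Scheme.{u}) [CompactSpace X] :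
    ∃ l : List X.Opens, (∀ V ∈ l, IsAffineOpen V) ∧ ⨆ j : Fin l.length, l[j] = (⊤ : X.Opens) := by
  classical
  obtain ⟨t, ht⟩ := isCompact_univ.elim_finite_subcover (fun U : {U : X.Opens // IsAffineOpen U} => (U.1 : Set X))
    (fun U => U.1.2) fun x _ => by
      obtain ⟨_, ⟨O, hO, rfl⟩, hxO, -⟩ := X.isBasis_affineOpens.exists_subset_of_mem_open (Set.mem_univ x) isOpen_univ
      exact Set.mem_iUnion.2 ⟨⟨O, hO⟩, hxO⟩
  refine ⟨(t.image Subtype.val).toList, fun V hV => ?_, le_antisymm le_top fun x _ => ?_⟩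
  · obtain ⟨U, -, rfl⟩ := Finset.mem_image.1 (Finset.mem_toList.1 hV)
    exact U.2
  · obtain ⟨U, hU, hxU⟩ := Set.mem_iUnion₂.1 (ht (Set.mem_univ x))
    obtain ⟨j, hj, hjU⟩ := List.getElem_of_mem (Finset.mem_toList.2 (Finset.mem_image_of_mem Subtype.val hU))
    exact TopologicalSpace.Opens.mem_iSup.2 ⟨⟨j, hj⟩, show x ∈ _ from hjU ▸ hxU⟩

variable [CompactSpace X] [X.IsSeparated]

/-- the resolution computes derived global sections -/
theorem nonempty_computes [HTor.HasRΓA (X ↘ Spec (CommRingCat.of A))] (P C : CochainComplex X.Modules ℤ)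
    (e : DerivedCategory.Q.obj P ≅ DerivedCategory.Q.obj C) (hq : ∀ n, Coh.IsQCoh (C.X n))
    (hac : ∀ n, NoHigher (C.X n)) :
    Nonempty ((DerivedCategory.Q.obj ((secCx A (⊤ : X.Opens)).obj C) : Dual.D A) ≅
      (HTor.RΓA (X ↘ Spec (CommRingCat.of A))).obj (DCoh.toD X P)) := by
  haveI := isIso_unit (A := A) C hq hac
  exact ⟨DerivedCategory.Q.mapIso ((NatIso.mapHomologicalComplex (gamSecIso (A := A) (X := X)) (ComplexShape.up ℤ)).app C) ≪≫
    ((DerivedCategory.quotientCompQhIso (ModuleCat.{u} A)).app ((gamCx A).obj C)).symm ≪≫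
    asIso (((HTor.gammaAKh (X ↘ Spec (CommRingCat.of A))).totalRightDerivedUnit DerivedCategory.Qh
      (HomotopyCategory.quasiIso X.Modules (ComplexShape.up ℤ))).app
        ((HomotopyCategory.quotient X.Modules (ComplexShape.up ℤ)).obj C)) ≪≫
    (HTor.RΓA (X ↘ Spec (CommRingCat.of A))).mapIso
      (((DerivedCategory.quotientCompQhIso X.Modules).app C) ≪≫ e.symm)⟩

/-- base change of quasi-isomorphisms -/
lemma quasiIso_extendScalars {A B : Type u} [CommRing A] [CommRing B] (φ : A →+* B)
    {K L : CochainComplex (ModuleCat.{u} A) ℤ} (f : K ⟶ L) [QuasiIso f]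
    (hK : ∀ n, Module.Flat A (K.X n)) (hL : ∀ n, Module.Flat A (L.X n)) (b : ℤ) (bK : ∀ n, b < n → IsZero (K.X n))
    (bL : ∀ n, b < n → IsZero (L.X n)) :
    QuasiIso (((ModuleCat.extendScalars.{u, u, u} φ).mapHomologicalComplex (ComplexShape.up ℤ)).map f) := by
  haveI : (ModuleCat.extendScalars.{u, u, u} φ).Additive :=
    (ModuleCat.extendRestrictScalarsAdj.{u, u, u} φ).left_adjoint_additive
  refine (DerPlus.quasiIso_iff_acyclic_mappingCone _).2 (acyclic_of_iso
    (CochainComplex.mappingCone.mapHomologicalComplexIso f _) ?_)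
  refine acyclic_extendScalars φ _ ((DerPlus.quasiIso_iff_acyclic_mappingCone f).1 inferInstance) (fun n => ?_)
    b fun n hn => ?_
  · haveI := hK (n + 1)
    haveI := hL n
    haveI : Module.Flat A (K.X (n + 1) ⊞ L.X n : ModuleCat.{u} A) := by
      haveI : Module.Flat A (ModuleCat.of A (K.X (n + 1) × L.X n)) :=
        IndEtLib.flat_prod (N := K.X (n + 1)) (F := L.X n)
      exact flat_of_iso A (ModuleCat.biprodIsoProd (K.X (n + 1)) (L.X n)).symm
    exact flat_of_iso A (HomologicalComplex.homotopyCofiber.XIsoBiprod f n (n + 1) rfl).symm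
  · rw [IsZero.iff_id_eq_zero, ← CochainComplex.mappingCone.id_X f n (n + 1) rfl,
      (bK (n + 1) (by omega)).eq_of_tgt ((CochainComplex.mappingCone.fst f).1.v n (n + 1) rfl) 0,
      (bL n hn).eq_of_tgt ((CochainComplex.mappingCone.snd f).v n n (add_zero n)) 0,
      zero_comp, zero_comp, add_zero]

variable {B : Type u} [CommRing B] [Algebra A B] {X' : Scheme.{u}} [X'.Over (Spec (CommRingCat.of B))]
  [CompactSpace X'] [X'.IsSeparated] (g : X' ⟶ X)
  (sq : IsPullback g (X' ↘ Spec (CommRingCat.of B)) (X ↘ Spec (CommRingCat.of A))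
    (Spec.map (CommRingCat.ofHom (algebraMap A B))))

include sq in
/-- **base change of derived global sections** -/
theorem computes_baseChange [HTor.HasRΓA (X ↘ Spec (CommRingCat.of A))] [HTor.HasRΓA (X' ↘ Spec (CommRingCat.of B))]
    (P : CochainComplex X.Modules ℤ) (hq : ∀ i : ℤ, Coh.IsQCoh (P.X i)) (bP : ∃ b : ℤ, ∀ i : ℤ, b < i → IsZero (P.X i))
    (hfl : ∀ i : ℤ, FlatMod.IsFlatOver (X ↘ Spec (CommRingCat.of A)) (P.X i))
    (L : DRing.Cx A) (hL : ∀ i : ℤ, Projective (L.X i)) (c : ∃ c : ℤ, DRing.VanishesAbove L c)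
    (e : HTor.Computes (X ↘ Spec (CommRingCat.of A)) L (DCoh.toD X P)) :
    HTor.Computes (X' ↘ Spec (CommRingCat.of B)) (CohIII.bcCx (algebraMap A B) L)
      (DCoh.toD X' ((HTor.pullCx g).obj P)) := by
  obtain ⟨b, hb⟩ := bP
  obtain ⟨c, hc⟩ := c
  obtain ⟨e⟩ := e
  obtain ⟨l, hl, hcov⟩ := exists_affine_list X
  have hP : ∀ n, FlatSec (A := A) (P.X n) := fun n => flatSec_of_isFlatOver _ (hq n) (hfl n)
  let C := res P l
  have hC : ∀ n, Piece (FlatSec (A := A)) l (C.X n) := piece_res stable_flatSec P hP l hl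
  haveI : (Scheme.Modules.pullback g).Additive :=
    (Scheme.Modules.pullbackPushforwardAdjunction g).left_adjoint_additive
  haveI : (ModuleCat.extendScalars.{u, u, u} (algebraMap A B)).Additive :=
    (ModuleCat.extendRestrictScalarsAdj.{u, u, u} (algebraMap A B)).left_adjoint_additive
  haveI : IsAffineHom g := W7Cech.isAffineHom_bc A B g sq
  -- on `X`
  have hR := acyclic_R A stable_flatSec P hP l hl hcov
  have hR1 : (((𝟭 X.Modules).mapHomologicalComplex (ComplexShape.up ℤ)).obj (R P l)).Acyclic :=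
    acyclic_of_iso ((Functor.mapHomologicalComplexIdIso X.Modules (ComplexShape.up ℤ)).app _).symm hR
  obtain ⟨e₁⟩ := nonempty_map_res_iso stable_flatSec P hP (𝟭 X.Modules) l hl hR1
  obtain ⟨eC⟩ := nonempty_computes (A := A) P C
    (DerivedCategory.Q.mapIso ((Functor.mapHomologicalComplexIdIso X.Modules (ComplexShape.up ℤ)).app P).symm ≪≫ e₁ ≪≫
      DerivedCategory.Q.mapIso ((Functor.mapHomologicalComplexIdIso X.Modules (ComplexShape.up ℤ)).app C))
    (fun n => ((hC n).mem stable_flatSec hl).qcoh) fun n => (hC n).noHigher stable_flatSec hl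
  haveI : L.IsKProjective := DRingKP.isKProjective_of_vanishesAbove hc hL
  obtain ⟨f, hf⟩ := PerfLocal.exists_lift (e ≪≫ eC.symm).hom
  haveI : QuasiIso f := by
    rw [← DerivedCategory.isIso_Q_map_iff_quasiIso, hf]
    exact inferInstanceAs (IsIso (e ≪≫ eC.symm).hom)
  let d := max c (b + l.length)
  haveI hbf : QuasiIso (((ModuleCat.extendScalars.{u, u, u} (algebraMap A B)).mapHomologicalComplex (ComplexShape.up ℤ)).map f) :=
    quasiIso_extendScalars (algebraMap A B) f
      (fun n => by
        haveI : Module.Projective A (L.X n) := (IsProjective.iff_projective (L.X n)).2 (hL n)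
        infer_instance)
      (fun n => (hC n).flat_top hl) d (fun n hn => hc n (by omega))
      fun n hn => (secA A (⊤ : X.Opens)).map_isZero (isZero_res stable_flatSec P hP hb l hl n (by omega))
  -- on `X'`
  have hR' : (((Scheme.Modules.pullback g).mapHomologicalComplex (ComplexShape.up ℤ)).obj (R P l)).Acyclic := by
    refine acyclic_of_cover (A := B) (fun n => QC.isQCoh_pullback g (exists_splitting stable_flatSec P hP l hl n).2.qcoh)
      (fun j : Fin l.length => g ⁻¹ᵁ l[j]) (fun j => (hl _ (List.getElem_mem _)).preimage g) ?_ fun j => ?_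
    · rw [← Scheme.Hom.preimage_iSup, hcov]; rfl
    · have hV : IsAffineOpen l[j] := hl _ (List.getElem_mem _)
      let Φ := (NatTrans.mapHomologicalComplex (β g sq l[j]) (ComplexShape.up ℤ)).app (R P l)
      haveI : ∀ n, IsIso (Φ.f n) := fun n => isIso_β_affine g sq hV (exists_splitting stable_flatSec P hP l hl n).2.qcoh
      haveI : IsIso Φ := HomologicalComplex.Hom.isIso_of_components Φ
      refine acyclic_of_iso (asIso Φ) (acyclic_extendScalars (algebraMap A B) ((secCx A l[j]).obj (R P l))
        (acyclic_secCx (fun n => (exists_splitting stable_flatSec P hP l hl n).2.qcoh) hR hV)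
        (fun n => (exists_splitting stable_flatSec P hP l hl n).2.flat _ hV) (b + l.length)
        fun n hn => (secA A l[j]).map_isZero (isZero_R P hb l n hn))
  obtain ⟨e₂⟩ := nonempty_map_res_iso stable_flatSec P hP (Scheme.Modules.pullback g) l hl hR'
  obtain ⟨eC'⟩ := nonempty_computes (A := B) ((HTor.pullCx g).obj P) ((HTor.pullCx g).obj C) e₂
    (fun n => QC.isQCoh_pullback g ((hC n).mem stable_flatSec hl).qcoh) fun n => (hC n).noHigher_pullback g sq hl
  let Ψ := (NatTrans.mapHomologicalComplex (β g sq (⊤ : X.Opens)) (ComplexShape.up ℤ)).app C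
  haveI : ∀ n, IsIso (Ψ.f n) := fun n => (hC n).isIso_β_top g sq hl
  haveI : IsIso Ψ := HomologicalComplex.Hom.isIso_of_components Ψ
  haveI : IsIso ((DerivedCategory.Q : _ ⥤ Dual.D B).map
      (((ModuleCat.extendScalars.{u, u, u} (algebraMap A B)).mapHomologicalComplex (ComplexShape.up ℤ)).map f)) :=
    (DerivedCategory.isIso_Q_map_iff_quasiIso _ _).2 hbf
  exact ⟨asIso ((DerivedCategory.Q : _ ⥤ Dual.D B).map
      (((ModuleCat.extendScalars.{u, u, u} (algebraMap A B)).mapHomologicalComplex (ComplexShape.up ℤ)).map f)) ≪≫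
    DerivedCategory.Q.mapIso (asIso Ψ) ≪≫ eC'⟩

end Groth.Agent.HTorBC
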