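import Groth.Agent.HTorBC.Resolve
import Groth.Agent.HTorBC.Compute
import Groth.Agent.HTorBC.FlatExact
import Groth.Agent.W7Cech.BCSec
import Groth.Agent.PBundle.FrameTools
import Groth.Agent.CohQC.Push
import Mathlib.Algebra.Category.ModuleCat.ChangeOfRings

/-!
Sections of pulled back modules and base change of scalars.
-/

set_option autoImplicit false
set_option backward.isDefEq.respectTransparency false
set_option backward.isDefEq.respectTransparency.types false
set_option linter.style.haveILetI false
set_option linter.unusedSectionVars false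
set_option maxHeartbeats 1000000

universe u

open CategoryTheory CategoryTheory.Limits AlgebraicGeometry TopologicalSpace Opposite

attribute [local instance] HasDerivedCategory.standard

noncomputable section

namespace Groth.Agent.HTorBC

open Groth.Agent.W7Cech (secA secRing)
open Groth.Agent.QC

/-- natural transformations between additive functors are isomorphisms on sums -/
lemma isIso_app_biprod {C D : Type*} [Category* C] [Preadditive C] [HasBinaryBiproducts C] [Category* D] [Preadditive D]
    {F G : C ⥤ D} [F.Additive] [G.Additive] (α : F ⟶ G) (M N : C) [IsIso (α.app M)] [IsIso (α.app N)] :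
    IsIso (α.app (M ⊞ N)) := by
  refine ⟨G.map biprod.fst ≫ inv (α.app M) ≫ F.map biprod.inl + G.map biprod.snd ≫ inv (α.app N) ≫ F.map biprod.inr,
    ?_, ?_⟩
  · rw [Preadditive.comp_add, ← α.naturality_assoc, ← α.naturality_assoc, IsIso.hom_inv_id_assoc,
      IsIso.hom_inv_id_assoc, ← F.map_comp, ← F.map_comp, ← F.map_add, biprod.total, F.map_id]
  · rw [Preadditive.add_comp, Category.assoc, Category.assoc, Category.assoc, Category.assoc, α.naturality,
      α.naturality, IsIso.inv_hom_id_assoc, IsIso.inv_hom_id_assoc, ← G.map_comp, ← G.map_comp, ← G.map_add,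
      biprod.total, G.map_id]

lemma isIso_app_of_isZero {C D : Type*} [Category* C] [Preadditive C] [Category* D] [Preadditive D]
    {F G : C ⥤ D} [F.Additive] [G.Additive] (α : F ⟶ G) {M : C} (h : IsZero M) : IsIso (α.app M) :=
  ⟨0, (F.map_isZero h).eq_of_src _ _, (G.map_isZero h).eq_of_src _ _⟩

lemma isIso_app_of_iso {C D : Type*} [Category* C] [Category* D] {F G : C ⥤ D} (α : F ⟶ G) {M N : C} (e : M ≅ N)
    [IsIso (α.app M)] : IsIso (α.app N) := by
  have : α.app N = F.map e.inv ≫ α.app M ≫ G.map e.hom := by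
    rw [← α.naturality, ← F.map_comp_assoc, e.inv_hom_id, F.map_id, Category.id_comp]
  rw [this]
  infer_instance

lemma noHigher_biprod {X : Scheme.{u}} {M N : X.Modules} (hM : NoHigher M) (hN : NoHigher N) : NoHigher (M ⊞ N) :=
  fun i hi => by
  haveI := preservesBinaryBiproducts_of_preservesBiproducts (SheafOfModules.toSheaf X.ringCatSheaf)
  let E := Abelian.extFunctorObj ((yoneda ⋙ (Functor.whiskeringRight (Opens X)ᵒᵖ (Type u) AddCommGrpCat).obj AddCommGrpCat.free ⋙
    presheafToSheaf (Opens.grothendieckTopology X) AddCommGrpCat).obj (⊤ : X.Opens)) i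
  haveI := preservesBinaryBiproducts_of_preservesBiproducts E
  let e := E.mapIso ((SheafOfModules.toSheaf X.ringCatSheaf).mapBiprod M N) ≪≫ E.mapBiprod _ _ ≪≫
    AddCommGrpCat.biprodIsoProd _ _
  haveI : Subsingleton (E.obj ((SheafOfModules.toSheaf X.ringCatSheaf).obj M)) := hM i hi
  haveI : Subsingleton (E.obj ((SheafOfModules.toSheaf X.ringCatSheaf).obj N)) := hN i hi
  exact @Equiv.subsingleton _ _ e.addCommGroupIsoToAddEquiv.toEquiv inferInstance

variable {A B : Type u} [CommRing A] [CommRing B] [Algebra A B] {X X' : Scheme.{u}}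
  [X.Over (Spec (CommRingCat.of A))] [X'.Over (Spec (CommRingCat.of B))] (g : X' ⟶ X)
  (sq : IsPullback g (X' ↘ Spec (CommRingCat.of B)) (X ↘ Spec (CommRingCat.of A))
    (Spec.map (CommRingCat.ofHom (algebraMap A B))))

/-- sections pulled back, linearly -/
def pullA (V : X.Opens) : secA A V ⟶
    Scheme.Modules.pullback g ⋙ secA B (g ⁻¹ᵁ V) ⋙ ModuleCat.restrictScalars (algebraMap A B) where
  app M := ModuleCat.ofHom (X := ((secA A V).obj M : Type u))
    (Y := ((ModuleCat.restrictScalars (algebraMap A B)).obj ((secA B (g ⁻¹ᵁ V)).obj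
      ((Scheme.Modules.pullback g).obj M)) : Type u)) (W7Cech.pullSec A B g (F := M) V sq)
  naturality M N φ := by
    ext s
    exact (congrArg (fun z => z.app V s) ((Scheme.Modules.pullbackPushforwardAdjunction g).unit.naturality φ) : _)

/-- base change of sections -/
def β (V : X.Opens) : secA A V ⋙ ModuleCat.extendScalars.{u, u, u} (algebraMap A B) ⟶
    Scheme.Modules.pullback g ⋙ secA B (g ⁻¹ᵁ V) where
  app M := ((ModuleCat.extendRestrictScalarsAdj.{u, u, u} (algebraMap A B)).homEquiv _ _).symm ((pullA g sq V).app M)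
  naturality M N φ := by
    refine ((ModuleCat.extendRestrictScalarsAdj.{u, u, u} (algebraMap A B)).homEquiv_naturality_left_symm _ _).symm.trans
      (Eq.trans ?_ ((ModuleCat.extendRestrictScalarsAdj.{u, u, u} (algebraMap A B)).homEquiv_naturality_right_symm _ _))
    exact congrArg _ ((pullA g sq V).naturality φ)

lemma β_tmul (V : X.Opens) (M : X.Modules) (b : B) (s : Γ(M, V)) :
    ((β g sq V).app M).hom (b ⊗ₜ (show (secA A V).obj M from s)) =
      b • (show (secA B (g ⁻¹ᵁ V)).obj ((Scheme.Modules.pullback g).obj M) from OmegaSh.pullSect g M V s) := rfl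

/-- on affine opens base change is an isomorphism -/
theorem isIso_β_affine {V : X.Opens} (hV : IsAffineOpen V) {M : X.Modules} (hM : Coh.IsQCoh M) :
    IsIso ((β g sq V).app M) := by
  letI : Module A ((secA B (g ⁻¹ᵁ V)).obj ((Scheme.Modules.pullback g).obj M)) :=
    Module.compHom _ (algebraMap A B)
  haveI : IsScalarTower A B ((secA B (g ⁻¹ᵁ V)).obj ((Scheme.Modules.pullback g).obj M)) :=
    IsScalarTower.of_algebraMap_smul fun _ _ => rfl
  have h : IsBaseChange B (W7Cech.pullSec A B g (F := M) V sq) := W7Cech.isBaseChange_pullSec A B g sq hM hV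
  rw [ConcreteCategory.isIso_iff_bijective]
  letI : Module A ((ModuleCat.restrictScalars (algebraMap A B)).obj (ModuleCat.of B B)) := inferInstance
  have e : ∀ z, ((β g sq V).app M).hom z = h.equiv (TensorProduct.congr
      ({ AddEquiv.refl B with map_smul' := fun a b => (Algebra.smul_def a (show B from b)).symm } :
        ((ModuleCat.restrictScalars (algebraMap A B)).obj (ModuleCat.of B B) : Type u) ≃ₗ[A] B)
      (LinearEquiv.refl A ((secA A V).obj M : Type u)) z) := by
    intro z
    induction z using TensorProduct.induction_on with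
    | zero => exact (map_zero _).trans ((congrArg h.equiv (map_zero _)).trans (map_zero _)).symm
    | tmul b s => exact (β_tmul g sq V M b s).trans (h.equiv_tmul b s).symm
    | add p q hp hq => rw [map_add, map_add, map_add, hp, hq]
  refine (congrArg Function.Bijective (funext e)).mpr ?_
  exact h.equiv.bijective.comp (LinearEquiv.bijective _)

/-- base change commutes with restriction -/
lemma β_res {V V' : X.Opens} (h : V' ≤ V) (M : X.Modules) :
    (ModuleCat.extendScalars.{u, u, u} (algebraMap A B)).map (resA (A := A) h M) ≫ (β g sq V').app M =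
      (β g sq V).app M ≫ resA (A := B) (g.preimage_mono h) ((Scheme.Modules.pullback g).obj M) := by
  refine ((ModuleCat.extendRestrictScalarsAdj.{u, u, u} (algebraMap A B)).homEquiv_naturality_left_symm _ _).symm.trans
    (Eq.trans (congrArg _ ?_)
      ((ModuleCat.extendRestrictScalarsAdj.{u, u, u} (algebraMap A B)).homEquiv_naturality_right_symm _ _))
  ext s
  exact PBundle.pullSect_res g M h s

lemma isIso_resA {V V' : X.Opens} (h : V' ≤ V) (M : X.Modules) (hb : Function.Bijective (QC.res M h)) :
    IsIso (resA (A := A) h M) :=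
  (ConcreteCategory.isIso_iff_bijective _).2 hb

lemma isIso_β_of_res {V V' : X.Opens} (h : V' ≤ V) (M : X.Modules) (h₁ : Function.Bijective (QC.res M h))
    (h₂ : Function.Bijective (QC.res ((Scheme.Modules.pullback g).obj M) (g.preimage_mono h)))
    [IsIso ((β g sq V').app M)] : IsIso ((β g sq V).app M) := by
  haveI := isIso_resA (A := A) h M h₁
  haveI := isIso_resA (A := B) (g.preimage_mono h) _ h₂
  exact IsIso.of_isIso_fac_right (β_res g sq h M).symm

variable [X.IsSeparated] [X'.IsSeparated]

include sq in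
/-- the pull back of a pushed forward module is pushed forward -/
theorem isIso_η_pullback {U : X.Opens} (hU : IsAffineOpen U) {G : X.Modules} (hG : Coh.IsQCoh G) :
    IsIso ((η (g ⁻¹ᵁ U)).app ((Scheme.Modules.pullback g).obj ((J U).obj G))) := by
  haveI : IsAffineHom g := W7Cech.isAffineHom_bc A B g sq
  let M := (J U).obj G
  have hM : Coh.IsQCoh M := isQCoh_J hU hG
  have hM' : Coh.IsQCoh ((Scheme.Modules.pullback g).obj M) := QC.isQCoh_pullback g hM
  let ι := {O : X.Opens // IsAffineOpen O}
  refine QC.isIso_of_restrict_cover (fun O : ι => (O.2.preimage g).fromSpec) (fun x => ?_) _ fun O =>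
    isIso_restrict_of_bijective (O.2.preimage g) hM' (isQCoh_J (hU.preimage g) hM') _ ?_
  · obtain ⟨_, ⟨O, hO, rfl⟩, hxO, -⟩ := X.isBasis_affineOpens.exists_subset_of_mem_open (Set.mem_univ (g x)) isOpen_univ
    exact ⟨⟨O, hO⟩, (hO.preimage g).range_fromSpec.symm ▸ hxO⟩
  have hres : Function.Bijective (QC.res M (inf_le_right : U ⊓ O.1 ≤ O.1)) := bijective_res_J U G inf_le_right le_rfl
  haveI := isIso_β_affine g sq O.2 hM
  haveI := isIso_β_affine g sq (hU.inf O.2) hM
  haveI := isIso_resA (A := A) (inf_le_right : U ⊓ O.1 ≤ O.1) M hres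
  haveI : IsIso (resA (A := B) (g.preimage_mono (inf_le_right : U ⊓ O.1 ≤ O.1))
      ((Scheme.Modules.pullback g).obj M)) := by
    exact IsIso.of_isIso_fac_left (β_res g sq (inf_le_right : U ⊓ O.1 ≤ O.1) M).symm
  have hb : Function.Bijective (QC.res ((Scheme.Modules.pullback g).obj M)
      (g.preimage_mono (inf_le_right : U ⊓ O.1 ≤ O.1))) :=
    ConcreteCategory.bijective_of_isIso (resA (A := B) (g.preimage_mono (inf_le_right : U ⊓ O.1 ≤ O.1))
      ((Scheme.Modules.pullback g).obj M))
  rw [Scheme.Modules.restrictAdjunction_unit_app_app]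
  have heq : (g ⁻¹ᵁ U).ι ''ᵁ ((g ⁻¹ᵁ U).ι ⁻¹ᵁ (g ⁻¹ᵁ O.1)) = g ⁻¹ᵁ (U ⊓ O.1) := image_preimage _ _
  have hf := (bijective_map_of_eq ((Scheme.Modules.pullback g).obj M) heq.le heq.ge).comp hb
  refine (congrArg Function.Bijective ?_).mp hf
  funext s
  exact QC.res_res (M := (Scheme.Modules.pullback g).obj M) _ _ s

omit [X'.IsSeparated] in
lemma noHigher_J {U : X.Opens} (hU : IsAffineOpen U) {M : X.Modules} (hM : Coh.IsQCoh M) : NoHigher ((J U).obj M) := by
  intro i hi
  obtain ⟨p, rfl⟩ : ∃ p, i = p + 1 := ⟨i - 1, by omega⟩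
  haveI : IsAffineHom U.ι := CohQC.isAffineHom_ι (fun _ _ hV hW => hV.inf hW) hU
  haveI : (M.restrict U.ι).IsQuasicoherent := QC.isQCoh_restrict U.ι hM
  refine CohQC.hu_push_vanish U.ι (M.restrict U.ι) ⊤ ?_ p
  haveI : IsAffine U.toScheme := hU
  exact isAffineOpen_top U.toScheme

omit [X'.IsSeparated] in
lemma flat_top_J {U : X.Opens} (hU : IsAffineOpen U) {M : X.Modules} (hM : FlatSec (A := A) M) :
    Module.Flat A ((secA A (⊤ : X.Opens)).obj ((J U).obj M)) :=
  haveI : IsIso (resA (A := A) (le_top : U ≤ ⊤) ((J U).obj M)) :=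
    isIso_resA le_top _ (bijective_res_J U M le_top inf_le_left)
  haveI := (hM.J hU).flat U hU
  flat_of_iso A (asIso (resA (A := A) (le_top : U ≤ ⊤) ((J U).obj M))).symm

omit [X'.IsSeparated] in
/-- pieces have no higher cohomology -/
theorem Piece.noHigher {Φ : X.Modules → Prop} (hΦ : Stable Φ) {l : List X.Opens} (hl : ∀ V ∈ l, IsAffineOpen V)
    {M : X.Modules} (hM : Piece Φ l M) : NoHigher M := by
  induction hM with
  | zero h => exact noHigher_of_isZero h
  | base V hV h' => exact noHigher_J (hl V hV) (hΦ.qcoh h')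
  | biprod _ _ ih ih' => exact noHigher_biprod ih ih'
  | of_iso e _ ih => exact noHigher_of_iso e ih

omit [X'.IsSeparated] in
/-- pieces have flat global sections -/
theorem Piece.flat_top {l : List X.Opens} (hl : ∀ V ∈ l, IsAffineOpen V) {M : X.Modules} (hM : Piece (FlatSec (A := A)) l M) :
    Module.Flat A ((secA A (⊤ : X.Opens)).obj M) := by
  induction hM with
  | zero h => haveI := ModuleCat.subsingleton_of_isZero ((secA A (⊤ : X.Opens)).map_isZero h); infer_instance
  | base V hV h' => exact flat_top_J (hl V hV) h'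
  | biprod _ _ ih ih' => exact @flat_map_biprod A _ _ _ _ _ (secA A (⊤ : X.Opens)) _ _ _ ih ih'
  | of_iso e _ ih => exact @flat_of_iso A _ _ _ ((secA A (⊤ : X.Opens)).mapIso e) ih

include sq in
/-- pulled back pieces have no higher cohomology -/
theorem Piece.noHigher_pullback {l : List X.Opens} (hl : ∀ V ∈ l, IsAffineOpen V) {M : X.Modules} (hM : Piece (FlatSec (A := A)) l M) :
    NoHigher ((Scheme.Modules.pullback g).obj M) := by
  haveI : (Scheme.Modules.pullback g).Additive :=
    (Scheme.Modules.pullbackPushforwardAdjunction g).left_adjoint_additive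
  induction hM with
  | zero h => exact noHigher_of_isZero ((Scheme.Modules.pullback g).map_isZero h)
  | base V hV h' =>
    haveI : IsAffineHom g := W7Cech.isAffineHom_bc A B g sq
    haveI := isIso_η_pullback g sq (hl V hV) h'.qcoh
    exact noHigher_of_iso (asIso ((η (g ⁻¹ᵁ V)).app _)).symm
      (noHigher_J ((hl V hV).preimage g) (QC.isQCoh_pullback g (h'.J (hl V hV)).qcoh))
  | biprod _ _ ih ih' =>
    haveI := preservesBinaryBiproducts_of_preservesBiproducts (Scheme.Modules.pullback g)
    exact noHigher_of_iso ((Scheme.Modules.pullback g).mapBiprod _ _).symm (noHigher_biprod ih ih')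
  | of_iso e _ ih => exact noHigher_of_iso ((Scheme.Modules.pullback g).mapIso e) ih

/-- base change of global sections is an isomorphism on pieces -/
theorem Piece.isIso_β_top {l : List X.Opens} (hl : ∀ V ∈ l, IsAffineOpen V) {M : X.Modules} (hM : Piece (FlatSec (A := A)) l M) :
    IsIso ((β g sq (⊤ : X.Opens)).app M) := by
  haveI : (Scheme.Modules.pullback g).Additive :=
    (Scheme.Modules.pullbackPushforwardAdjunction g).left_adjoint_additive
  haveI : (ModuleCat.extendScalars.{u, u, u} (algebraMap A B)).Additive :=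
    (ModuleCat.extendRestrictScalarsAdj.{u, u, u} (algebraMap A B)).left_adjoint_additive
  induction hM with
  | zero h => exact isIso_app_of_isZero _ h
  | @base G V hV h' =>
    haveI : IsAffineHom g := W7Cech.isAffineHom_bc A B g sq
    haveI := isIso_η_pullback g sq (hl V hV) h'.qcoh
    haveI := isIso_β_affine g sq (hl V hV) (h'.J (hl V hV)).qcoh
    refine isIso_β_of_res g sq (le_top : V ≤ ⊤) _ (bijective_res_J V _ le_top inf_le_left) ?_
    have hb : Function.Bijective
        (((η (g ⁻¹ᵁ V)).app ((Scheme.Modules.pullback g).obj ((J V).obj G))).app (g ⁻¹ᵁ ⊤)) :=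
      ConcreteCategory.bijective_of_isIso _
    rw [Scheme.Modules.restrictAdjunction_unit_app_app] at hb
    have heq : (g ⁻¹ᵁ V).ι ''ᵁ ((g ⁻¹ᵁ V).ι ⁻¹ᵁ (g ⁻¹ᵁ ⊤)) = g ⁻¹ᵁ V :=
      (image_preimage _ _).trans (inf_eq_left.2 (g.preimage_mono le_top))
    refine (congrArg Function.Bijective ?_).mp ((bijective_map_of_eq _ heq.ge heq.le).comp hb)
    funext s
    exact QC.res_res (M := (Scheme.Modules.pullback g).obj ((J V).obj G)) _ _ s
  | biprod _ _ ih ih' =>
    haveI := ih
    haveI := ih'
    exact isIso_app_biprod _ _ _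
  | of_iso e _ ih =>
    haveI := ih
    exact isIso_app_of_iso _ e

end Groth.Agent.HTorBC
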