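import Groth.Agent.HTorBC.KunnFlat
import Groth.Agent.RelPCS.FlatBase
import Groth.Agent.TorBC.UnitAct
import Groth.Agent.KFlat.TorAmp
import Groth.Agent.FlatModBC.FlatAt
import Groth.Agent.Betti.Main
import Groth.Agent.CurveRR.Tensor
import Groth.Prelude.Def_DDual2
import Mathlib.AlgebraicGeometry.Morphisms.Smooth

/-!
`A ⊗^L B = LΔ^*(A ⊠ B)` over a field, and `i₁_*O ⊠ i₂_*O = (i₁ × i₂)_*O`.
-/

set_option autoImplicit false
set_option backward.isDefEq.respectTransparency false
set_option backward.isDefEq.respectTransparency.types false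
set_option linter.style.haveILetI false
set_option linter.unusedSectionVars false

universe u

open CategoryTheory Limits AlgebraicGeometry HomologicalComplex

attribute [local instance] HasDerivedCategory.standard

namespace Groth.Agent.HTorBC

open Groth.Agent.KFlat Groth.Agent.ProjForm Groth.Agent.TorBC

/-- every module over the spectrum of a field is flat -/
lemma isFlatOver_specField (k : Type u) [Field k] {X : Scheme.{u}} (f : X ⟶ Spec (CommRingCat.of k))
    (M : X.Modules) : FlatMod.IsFlatOver f M := fun x => by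
  have hF := Betti.isField_stalk_SpecField (CommRingCat.of k) (Field.toIsField k) (f.base x)
  letI := FlatMod.moduleStalkOver f M x
  letI := hF.toField
  exact Module.Flat.of_free

variable {X Z : Scheme.{u}}

/-- `A ⊗^L B = LΔ^*(p^*A ⊗ q^*B)` -/
theorem nonempty_diag_iso {S : Scheme.{u}} {f : X ⟶ S} [Flat f] {p q : Z ⟶ X} (H : IsPullback p q f f)
    (Δ : X ⟶ Z) (hp : Δ ≫ p = 𝟙 X) (hq : Δ ≫ q = 𝟙 X) (A B : X.Modules) (hA : ∀ M : X.Modules, FlatMod.IsFlatOver f M)
    [DCoh.HasLTensorMod B] [DCoh.HasLpull Δ] :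
    Nonempty ((DCoh.LTensorMod B).obj (DCoh.inD X A) ≅
      (DCoh.Lpull Δ).obj (DCoh.inD Z
        (((schB Z).obj ((Scheme.Modules.pullback p).obj A)).obj ((Scheme.Modules.pullback q).obj B)))) := by
  haveI : Flat p := MorphismProperty.of_isPullback H.flip ‹Flat f›
  haveI : Flat q := MorphismProperty.of_isPullback H ‹Flat f›
  haveI := RelPCS.preservesFiniteLimits_pullback p
  haveI := RelPCS.preservesFiniteLimits_pullback q
  haveI := (Scheme.Modules.pullbackPushforwardAdjunction p).leftAdjoint_preservesColimits.{0, 0}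
  haveI : (Scheme.Modules.pullback p).PreservesHomology := inferInstance
  let P := (resF X).obj (sg A)
  let Q := (resF X).obj (sg B)
  let a := (resψ X).app (sg A)
  let b := (resψ X).app (sg B)
  have hP : DCoh.IsKFlat P := isKFlat_resF _
  have hQ : DCoh.IsKFlat Q := isKFlat_resF _
  let A' := (Scheme.Modules.pullback p).obj A
  let B' := (Scheme.Modules.pullback q).obj B
  let Pp := (qC p).obj P
  let Qq := (qC q).obj Q
  have hPp : DCoh.IsKFlat Pp := isKFlat_pullback p hP
  have hQq : DCoh.IsKFlat Qq := isKFlat_pullback q hQ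
  let eA : (qC p).obj (sg A) ≅ sg A' :=
    (singleMapHomologicalComplex (Scheme.Modules.pullback p) (ComplexShape.up ℤ) 0).app A
  let eB : (qC q).obj (sg B) ≅ sg B' :=
    (singleMapHomologicalComplex (Scheme.Modules.pullback q) (ComplexShape.up ℤ) 0).app B
  haveI : QuasiIso ((qC p).map a) := HomologicalComplex.quasiIso_map_of_preservesHomology a _
  haveI : QuasiIso ((DCoh.tensorCx.map ((qC p).map a)).app Qq) := quasiIso_map_app_sch Qq hQq _
  have hz : ∀ n : ℤ, 0 < n → IsZero (((qC p).obj (sg A)).X n) := fun n hn =>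
    (Scheme.Modules.pullback p).map_isZero (isZero_single_obj_X _ _ _ _ (by lia))
  have hfl : ∀ n : ℤ, FlatMod.IsFlatOver q (((qC p).obj (sg A)).X n) := fun n x =>
    FlatModBC.isFlatOverAt_baseChange H ((sg A).X n) x (hA _ _)
  haveI : QuasiIso ((DCoh.tensorCx.obj ((qC p).obj (sg A))).map ((qC q).map b)) :=
    quasiIso_tens_flatPull q b 0 hz hfl
  let T := (DCoh.tensorCx.obj Pp).obj Qq
  let sZ : (DCoh.tensorCx.obj ((qC p).obj (sg A))).obj ((qC q).obj (sg B)) ≅ sg (((schB Z).obj A').obj B') :=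
    (DCoh.tensorCx.mapIso eA).app _ ≪≫ (DCoh.tensorCx.obj (sg A')).mapIso eB ≪≫ (sR (sg A') B').symm ≪≫
      (singleMapHomologicalComplex ((schB Z).flip.obj B') (ComplexShape.up ℤ) 0).app A'
  let eT : DerivedCategory.Q.obj T ≅ DCoh.inD Z (((schB Z).obj A').obj B') :=
    asIso (DerivedCategory.Q.map ((DCoh.tensorCx.map ((qC p).map a)).app Qq ≫
      (DCoh.tensorCx.obj ((qC p).obj (sg A))).map ((qC q).map b))) ≪≫
    DerivedCategory.Q.mapIso sZ ≪≫ ((DerivedCategory.singleFunctorIsoCompQ Z.Modules 0).app _).symm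
  have hT : DCoh.IsKFlat T := isKFlat_tensorCx hPp hQq
  -- the pullbacks along the diagonal
  have key : ∀ (r : Z ⟶ X), Δ ≫ r = 𝟙 X → ∀ C : CochainComplex X.Modules ℤ,
      Nonempty ((qC Δ).obj ((qC r).obj C) ≅ C) := fun r hr C =>
    ⟨Hom.isoOfComponents (fun n => (Scheme.Modules.pullbackComp Δ r ≪≫ Scheme.Modules.pullbackCongr hr ≪≫
      Scheme.Modules.pullbackId X).app (C.X n))
      fun i j _ => ((Scheme.Modules.pullbackComp Δ r ≪≫ Scheme.Modules.pullbackCongr hr ≪≫
        Scheme.Modules.pullbackId X).hom.naturality (C.d i j)).symm⟩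
  obtain ⟨kP⟩ := key p hp P
  obtain ⟨kQ⟩ := key q hq Q
  let eD : (DCoh.Lpull Δ).obj (DCoh.inD Z (((schB Z).obj A').obj B')) ≅
      DerivedCategory.Q.obj ((DCoh.tensorCx.obj P).obj Q) :=
    (DCoh.Lpull Δ).mapIso eT.symm ≪≫ ProjForm.lpullIso Δ hT ≪≫
      DerivedCategory.Q.mapIso ((pullTotIso Δ Pp Qq).symm ≪≫ (DCoh.tensorCx.mapIso kP).app _ ≪≫
        (DCoh.tensorCx.obj P).mapIso kQ)
  haveI := TorBC.quasiIso_tens_of_kFlat hP b
  exact ⟨(DCoh.LTensorMod B).mapIso (((DerivedCategory.singleFunctorIsoCompQ X.Modules 0).app A) ≪≫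
      (asIso (DerivedCategory.Q.map a)).symm) ≪≫ lTensorModIso B hP ≪≫
    DerivedCategory.Q.mapIso (sR P B) ≪≫ (asIso (DerivedCategory.Q.map ((DCoh.tensorCx.obj P).map b))).symm ≪≫
    eD.symm⟩

/-- structure sheaves pushed forward along isomorphic maps -/
lemma nonempty_push_unit_iso {W P : Scheme.{u}} (e : W ≅ P) {m : P ⟶ Z} {m' : W ⟶ Z} (h : e.hom ≫ m = m') :
    Nonempty ((Scheme.Modules.pushforward m').obj (OO W) ≅ (Scheme.Modules.pushforward m).obj (OO P)) := by
  subst h
  haveI := CurveRR.unitToPush_isIso e.hom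
  exact ⟨(Scheme.Modules.pushforwardComp e.hom m).symm.app (OO W) ≪≫
    (Scheme.Modules.pushforward m).mapIso (asIso (ClSub.unitToPush e.hom)).symm⟩

/-- `p^* i₁_*O ⊗ q^* i₂_*O = (i₁ × i₂)_*O` -/
theorem nonempty_boxTimes {S Y₁ Y₂ : Scheme.{u}} (f : X ⟶ S) (i₁ : Y₁ ⟶ X) (i₂ : Y₂ ⟶ X)
    [IsClosedImmersion i₁] [IsClosedImmersion i₂] :
    Nonempty (((schB (pullback f f)).obj
        ((Scheme.Modules.pullback (pullback.fst f f)).obj ((Scheme.Modules.pushforward i₁).obj (OO Y₁)))).obj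
        ((Scheme.Modules.pullback (pullback.snd f f)).obj ((Scheme.Modules.pushforward i₂).obj (OO Y₂))) ≅
      (Scheme.Modules.pushforward (pullback.map (i₁ ≫ f) (i₂ ≫ f) f f i₁ i₂ (𝟙 S) (Category.comp_id _)
        (Category.comp_id _))).obj (OO (pullback (i₁ ≫ f) (i₂ ≫ f)))) := by
  let p := pullback.fst f f
  let q := pullback.snd f f
  let j₁ : pullback p i₁ ⟶ pullback f f := pullback.fst p i₁
  let j₂ : pullback q i₂ ⟶ pullback f f := pullback.fst q i₂
  have H₁ : IsPullback j₁ (pullback.snd p i₁) p i₁ := IsPullback.of_hasPullback p i₁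
  have H₂ : IsPullback j₂ (pullback.snd q i₂) q i₂ := IsPullback.of_hasPullback q i₂
  have H₃ : IsPullback (pullback.fst j₂ j₁) (pullback.snd j₂ j₁) j₂ j₁ := IsPullback.of_hasPullback j₂ j₁
  haveI := isIso_beta H₁
  haveI := isIso_beta H₂
  haveI := isIso_beta H₃
  let A' := (Scheme.Modules.pushforward j₁).obj (OO (pullback p i₁))
  have hA' : Coh.IsQCoh A' :=
    haveI : (OO (pullback p i₁)).IsQuasicoherent := QC.isQCoh_unit _
    QC.isQCoh_pushforward j₁
  haveI := isIso_unitAct j₂ hA'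
  let e₁ : (Scheme.Modules.pullback p).obj ((Scheme.Modules.pushforward i₁).obj (OO Y₁)) ≅ A' :=
    asIso (beta H₁.w)
  let e₂ : (Scheme.Modules.pullback q).obj ((Scheme.Modules.pushforward i₂).obj (OO Y₂)) ≅
      (Scheme.Modules.pushforward j₂).obj (OO (pullback q i₂)) := asIso (beta H₂.w)
  let e₃ : ((schB (pullback f f)).obj A').obj ((Scheme.Modules.pushforward j₂).obj (OO (pullback q i₂))) ≅
      (Scheme.Modules.pushforward j₂).obj ((Scheme.Modules.pullback j₂).obj A') :=
    @asIso _ _ _ _ (((schB (pullback f f)).map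
      ((Scheme.Modules.pullbackPushforwardAdjunction j₂).unit.app A')).app _ ≫ act j₂ _) ‹_›
  let e₄ : (Scheme.Modules.pullback j₂).obj A' ≅
      (Scheme.Modules.pushforward (pullback.fst j₂ j₁)).obj (OO (pullback j₂ j₁)) := asIso (beta H₃.w)
  let m := pullback.map (i₁ ≫ f) (i₂ ≫ f) f f i₁ i₂ (𝟙 S) (Category.comp_id _) (Category.comp_id _)
  let W := pullback j₂ j₁
  let mW : W ⟶ pullback f f := pullback.fst j₂ j₁ ≫ j₂
  have hw₁ : mW ≫ p = (pullback.snd j₂ j₁ ≫ pullback.snd p i₁) ≫ i₁ := by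
    simp only [mW, pullback.condition, Category.assoc, H₁.w, j₁]
  have hw₂ : mW ≫ q = (pullback.fst j₂ j₁ ≫ pullback.snd q i₂) ≫ i₂ := by
    simp only [mW, Category.assoc, H₂.w, j₂]
  let u : W ⟶ pullback (i₁ ≫ f) (i₂ ≫ f) :=
    pullback.lift (pullback.snd j₂ j₁ ≫ pullback.snd p i₁) (pullback.fst j₂ j₁ ≫ pullback.snd q i₂) (by
      rw [← Category.assoc, ← hw₁, ← Category.assoc, ← hw₂, Category.assoc, Category.assoc]
      exact congrArg (mW ≫ ·) pullback.condition)
  have hu : u ≫ m = mW := by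
    refine pullback.hom_ext ?_ ?_
    · simp only [m, u, Category.assoc, pullback.lift_fst, pullback.lift_fst_assoc]
      rw [← Category.assoc]
      exact hw₁.symm
    · simp only [m, u, Category.assoc, pullback.lift_snd, pullback.lift_snd_assoc]
      rw [← Category.assoc]
      exact hw₂.symm
  let v : pullback (i₁ ≫ f) (i₂ ≫ f) ⟶ W :=
    pullback.lift (pullback.lift m (pullback.snd _ _) (by simp [m, q]))
      (pullback.lift m (pullback.fst _ _) (by simp [m, p])) (by simp only [j₁, j₂, pullback.lift_fst])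
  have hv : v ≫ mW = m := by simp [v, mW, j₂]
  haveI : Mono mW := mono_comp _ _
  haveI : Mono m := by
    exact ⟨fun a b h => pullback.hom_ext
      ((cancel_mono i₁).1 (by simpa [m] using congrArg (fun t => t ≫ pullback.fst f f) h))
      ((cancel_mono i₂).1 (by simpa [m] using congrArg (fun t => t ≫ pullback.snd f f) h))⟩
  let e : W ≅ pullback (i₁ ≫ f) (i₂ ≫ f) :=
    ⟨u, v, (cancel_mono mW).1 (by rw [Category.assoc, hv, hu, Category.id_comp]),
      (cancel_mono m).1 (by rw [Category.assoc, hu, hv, Category.id_comp])⟩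
  obtain ⟨e₅⟩ := nonempty_push_unit_iso e hu
  exact ⟨((schB _).mapIso e₁).app _ ≪≫ ((schB _).obj A').mapIso e₂ ≪≫ e₃ ≪≫
    (Scheme.Modules.pushforward j₂).mapIso e₄ ≪≫
    (Scheme.Modules.pushforwardComp (pullback.fst j₂ j₁) j₂).app _ ≪≫ e₅⟩

end Groth.Agent.HTorBC
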