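import Groth.Agent.HTorBC.ExtPair

/-!
External tensor products of pieces: cohomology and global sections.
-/

set_option autoImplicit false
set_option backward.isDefEq.respectTransparency false
set_option backward.isDefEq.respectTransparency.types false
set_option linter.style.haveILetI false
set_option linter.unusedSectionVars false
set_option maxHeartbeats 1000000

universe u

open CategoryTheory CategoryTheory.Limits AlgebraicGeometry TopologicalSpace Opposite MonoidalCategory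

noncomputable section

namespace Groth.Agent.HTorBC

open Groth.Agent.W7Cech (secA secRing)

variable {A : Type u} [CommRing A] {X₁ X₂ Z : Scheme.{u}} [X₁.Over (Spec (CommRingCat.of A))]
  [X₂.Over (Spec (CommRingCat.of A))] [Z.Over (Spec (CommRingCat.of A))] (p : Z ⟶ X₁) (q : Z ⟶ X₂)
  (hp : p ≫ (X₁ ↘ Spec (CommRingCat.of A)) = Z ↘ Spec (CommRingCat.of A))
  (hq : q ≫ (X₂ ↘ Spec (CommRingCat.of A)) = Z ↘ Spec (CommRingCat.of A))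
  (sq : IsPullback p q (X₁ ↘ Spec (CommRingCat.of A)) (X₂ ↘ Spec (CommRingCat.of A)))

/-- `p^* - ⊗ q^* M₂` -/
abbrev extFlip (M₂ : X₂.Modules) : X₁.Modules ⥤ Z.Modules :=
  Scheme.Modules.pullback p ⋙ (KFlat.schB Z).flip.obj ((Scheme.Modules.pullback q).obj M₂)

/-- `p^* M₁ ⊗ q^* -` -/
abbrev extObj (M₁ : X₁.Modules) : X₂.Modules ⥤ Z.Modules :=
  Scheme.Modules.pullback q ⋙ (KFlat.schB Z).obj ((Scheme.Modules.pullback p).obj M₁)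

instance additive_extFlip (M₂ : X₂.Modules) : (extFlip p q M₂).Additive where
  map_add := by
    intro M M' f g
    haveI : (Scheme.Modules.pullback p).Additive :=
      (Scheme.Modules.pullbackPushforwardAdjunction p).left_adjoint_additive
    change ((KFlat.schB Z).map ((Scheme.Modules.pullback p).map (f + g))).app _ = _
    rw [Functor.map_add, (KFlat.schB Z).map_add]
    rfl

instance additive_extObj (M₁ : X₁.Modules) : (extObj p q M₁).Additive :=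
  haveI : (Scheme.Modules.pullback q).Additive :=
    (Scheme.Modules.pullbackPushforwardAdjunction q).left_adjoint_additive
  inferInstance

lemma isQCoh_ext₂ {M₁ : X₁.Modules} (h₁ : Coh.IsQCoh M₁) {M₂ : X₂.Modules} (h₂ : Coh.IsQCoh M₂) :
    Coh.IsQCoh (ext₂ p q M₁ M₂) :=
  DQCoh.isQCoh_tensor (QC.isQCoh_pullback p h₁) (QC.isQCoh_pullback q h₂)

/-- the pairing, naturally in the first module -/
def pairENat₁ {V₁ : X₁.Opens} {V₂ : X₂.Opens} {W : Z.Opens} (e₁ : W ≤ p ⁻¹ᵁ V₁) (e₂ : W ≤ q ⁻¹ᵁ V₂) (M₂ : X₂.Modules) :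
    secA A V₁ ⋙ tensorRight ((secA A V₂).obj M₂) ⟶ extFlip p q M₂ ⋙ secA A W where
  app M₁ := pairE p q hp hq e₁ e₂ M₁ M₂
  naturality _ _ φ := pairE_natural₁ p q hp hq e₁ e₂ φ M₂

/-- the pairing, naturally in the second module -/
def pairENat₂ {V₁ : X₁.Opens} {V₂ : X₂.Opens} {W : Z.Opens} (e₁ : W ≤ p ⁻¹ᵁ V₁) (e₂ : W ≤ q ⁻¹ᵁ V₂) (M₁ : X₁.Modules) :
    secA A V₂ ⋙ tensorLeft ((secA A V₁).obj M₁) ⟶ extObj p q M₁ ⋙ secA A W where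
  app M₂ := pairE p q hp hq e₁ e₂ M₁ M₂
  naturality _ _ ψ := pairE_natural₂ p q hp hq e₁ e₂ M₁ ψ

variable [X₁.IsSeparated] [X₂.IsSeparated]

lemma isIso_resA_ext {V₁ V₁' : X₁.Opens} {V₂ V₂' : X₂.Opens} {W W' : Z.Opens} (h₁ : V₁' ≤ V₁) (h₂ : V₂' ≤ V₂)
    (h : W' ≤ W) (e₁ : W ≤ p ⁻¹ᵁ V₁) (e₂ : W ≤ q ⁻¹ᵁ V₂) (e₁' : W' ≤ p ⁻¹ᵁ V₁') (e₂' : W' ≤ q ⁻¹ᵁ V₂')
    (M₁ : X₁.Modules) (M₂ : X₂.Modules) [IsIso (pairE p q hp hq e₁ e₂ M₁ M₂)]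
    [IsIso (pairE p q hp hq e₁' e₂' M₁ M₂)] (hb₁ : Function.Bijective (QC.res M₁ h₁))
    (hb₂ : Function.Bijective (QC.res M₂ h₂)) : IsIso (resA (A := A) h (ext₂ p q M₁ M₂)) := by
  haveI := isIso_resA (A := A) h₁ M₁ hb₁
  haveI := isIso_resA (A := A) h₂ M₂ hb₂
  exact IsIso.of_isIso_fac_left (pairE_res p q hp hq h₁ h₂ h e₁ e₂ e₁' e₂' M₁ M₂).symm

include hp hq sq in
/-- external tensor products of pushed forward modules are pushed forward -/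
theorem isIso_η_ext₂ [Z.IsSeparated] {U₁ : X₁.Opens} (hU₁ : IsAffineOpen U₁) {U₂ : X₂.Opens} (hU₂ : IsAffineOpen U₂)
    {G₁ : X₁.Modules} (h₁ : Coh.IsQCoh G₁) {G₂ : X₂.Modules} (h₂ : Coh.IsQCoh G₂) :
    IsIso ((η (p ⁻¹ᵁ U₁ ⊓ q ⁻¹ᵁ U₂)).app (ext₂ p q ((J U₁).obj G₁) ((J U₂).obj G₂))) := by
  set W := p ⁻¹ᵁ U₁ ⊓ q ⁻¹ᵁ U₂
  have hW : IsAffineOpen W := isAffineOpen_prod p q sq hU₁ hU₂
  have hM₁ : Coh.IsQCoh ((J U₁).obj G₁) := isQCoh_J hU₁ h₁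
  have hM₂ : Coh.IsQCoh ((J U₂).obj G₂) := isQCoh_J hU₂ h₂
  have hF := isQCoh_ext₂ p q hM₁ hM₂
  refine QC.isIso_of_restrict_cover
    (fun O : {O : X₁.Opens // IsAffineOpen O} × {O : X₂.Opens // IsAffineOpen O} =>
      (isAffineOpen_prod p q sq O.1.2 O.2.2).fromSpec) (fun x => ?_) _ fun O =>
    QC.isIso_restrict_of_bijective (isAffineOpen_prod p q sq O.1.2 O.2.2) hF (isQCoh_J hW hF) _ ?_
  · obtain ⟨_, ⟨O₁, hO₁, rfl⟩, hx₁, -⟩ := X₁.isBasis_affineOpens.exists_subset_of_mem_open (Set.mem_univ (p x)) isOpen_univ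
    obtain ⟨_, ⟨O₂, hO₂, rfl⟩, hx₂, -⟩ := X₂.isBasis_affineOpens.exists_subset_of_mem_open (Set.mem_univ (q x)) isOpen_univ
    exact ⟨⟨⟨O₁, hO₁⟩, ⟨O₂, hO₂⟩⟩, (isAffineOpen_prod p q sq hO₁ hO₂).range_fromSpec.symm ▸ ⟨hx₁, hx₂⟩⟩
  obtain ⟨⟨O₁, hO₁⟩, ⟨O₂, hO₂⟩⟩ := O
  set O := p ⁻¹ᵁ O₁ ⊓ q ⁻¹ᵁ O₂
  have heq : W ⊓ O = p ⁻¹ᵁ (U₁ ⊓ O₁) ⊓ q ⁻¹ᵁ (U₂ ⊓ O₂) := by
    change (p ⁻¹ᵁ U₁ ⊓ q ⁻¹ᵁ U₂) ⊓ (p ⁻¹ᵁ O₁ ⊓ q ⁻¹ᵁ O₂) = _
    rw [inf_inf_inf_comm, Scheme.Hom.preimage_inf, Scheme.Hom.preimage_inf]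
  haveI := isIso_pairE p q hp hq sq hO₁ hO₂ hM₁ hM₂
  haveI := isIso_pairE p q hp hq sq (hU₁.inf hO₁) (hU₂.inf hO₂) hM₁ hM₂
  have hle : p ⁻¹ᵁ (U₁ ⊓ O₁) ⊓ q ⁻¹ᵁ (U₂ ⊓ O₂) ≤ O := heq ▸ inf_le_right
  haveI := isIso_resA_ext p q hp hq (inf_le_right : U₁ ⊓ O₁ ≤ O₁) (inf_le_right : U₂ ⊓ O₂ ≤ O₂) hle inf_le_left
    inf_le_right inf_le_left inf_le_right ((J U₁).obj G₁) ((J U₂).obj G₂)
    (bijective_res_J U₁ G₁ inf_le_right le_rfl) (bijective_res_J U₂ G₂ inf_le_right le_rfl)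
  have hb : Function.Bijective (QC.res (ext₂ p q ((J U₁).obj G₁) ((J U₂).obj G₂)) hle) :=
    ConcreteCategory.bijective_of_isIso (resA (A := A) hle (ext₂ p q ((J U₁).obj G₁) ((J U₂).obj G₂)))
  rw [Scheme.Modules.restrictAdjunction_unit_app_app]
  have heq' : W.ι ''ᵁ (W.ι ⁻¹ᵁ O) = p ⁻¹ᵁ (U₁ ⊓ O₁) ⊓ q ⁻¹ᵁ (U₂ ⊓ O₂) := (image_preimage _ _).trans heq
  have hf := (bijective_map_of_eq (ext₂ p q ((J U₁).obj G₁) ((J U₂).obj G₂)) heq'.le heq'.ge).comp hb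
  refine (congrArg Function.Bijective ?_).mp hf
  funext s
  exact QC.res_res (M := ext₂ p q ((J U₁).obj G₁) ((J U₂).obj G₂)) _ _ s

variable {Φ₁ : X₁.Modules → Prop} (hΦ₁ : Stable Φ₁) {Φ₂ : X₂.Modules → Prop} (hΦ₂ : Stable Φ₂)
  {l₁ : List X₁.Opens} (hl₁ : ∀ V ∈ l₁, IsAffineOpen V) {l₂ : List X₂.Opens} (hl₂ : ∀ V ∈ l₂, IsAffineOpen V)

include hp hq sq hΦ₁ hΦ₂ hl₁ hl₂ in
/-- external tensor products of pieces have no higher cohomology -/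
theorem noHigher_ext₂ [Z.IsSeparated] {M₁ : X₁.Modules} (h₁ : Piece Φ₁ l₁ M₁) {M₂ : X₂.Modules}
    (h₂ : Piece Φ₂ l₂ M₂) : NoHigher (ext₂ p q M₁ M₂) := by
  induction h₁ with
  | zero h => exact noHigher_of_isZero ((extFlip p q M₂).map_isZero h)
  | @base G₁ V₁ hV₁ hG₁ =>
    induction h₂ with
    | zero h => exact noHigher_of_isZero ((extObj p q ((J V₁).obj G₁)).map_isZero h)
    | @base G₂ V₂ hV₂ hG₂ =>
      haveI := isIso_η_ext₂ p q hp hq sq (hl₁ V₁ hV₁) (hl₂ V₂ hV₂) (hΦ₁.qcoh hG₁) (hΦ₂.qcoh hG₂)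
      exact noHigher_of_iso (asIso ((η (p ⁻¹ᵁ V₁ ⊓ q ⁻¹ᵁ V₂)).app (ext₂ p q ((J V₁).obj G₁) ((J V₂).obj G₂)))).symm
        (noHigher_J (isAffineOpen_prod p q sq (hl₁ V₁ hV₁) (hl₂ V₂ hV₂))
          (isQCoh_ext₂ p q (isQCoh_J (hl₁ V₁ hV₁) (hΦ₁.qcoh hG₁)) (isQCoh_J (hl₂ V₂ hV₂) (hΦ₂.qcoh hG₂))))
    | biprod _ _ ih ih' =>
      haveI := preservesBinaryBiproducts_of_preservesBiproducts (extObj p q ((J V₁).obj G₁))
      exact noHigher_of_iso ((extObj p q ((J V₁).obj G₁)).mapBiprod _ _).symm (noHigher_biprod ih ih')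
    | of_iso e _ ih => exact noHigher_of_iso ((extObj p q ((J V₁).obj G₁)).mapIso e) ih
  | biprod _ _ ih ih' =>
    haveI := preservesBinaryBiproducts_of_preservesBiproducts (extFlip p q M₂)
    exact noHigher_of_iso ((extFlip p q M₂).mapBiprod _ _).symm (noHigher_biprod ih ih')
  | of_iso e _ ih => exact noHigher_of_iso ((extFlip p q M₂).mapIso e) ih

include sq hΦ₁ hΦ₂ hl₁ hl₂ in
/-- on pieces the pairing of global sections is an isomorphism -/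
theorem isIso_pairE_top [Z.IsSeparated] {M₁ : X₁.Modules} (h₁ : Piece Φ₁ l₁ M₁) {M₂ : X₂.Modules}
    (h₂ : Piece Φ₂ l₂ M₂) :
    IsIso (pairE p q hp hq (V₁ := (⊤ : X₁.Opens)) (V₂ := (⊤ : X₂.Opens)) (W := (⊤ : Z.Opens)) le_top le_top M₁ M₂) := by
  let α := pairENat₁ p q hp hq (V₁ := (⊤ : X₁.Opens)) (V₂ := (⊤ : X₂.Opens)) (W := (⊤ : Z.Opens)) le_top le_top
  let β' := pairENat₂ p q hp hq (V₁ := (⊤ : X₁.Opens)) (V₂ := (⊤ : X₂.Opens)) (W := (⊤ : Z.Opens)) le_top le_top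
  induction h₁ with
  | zero h => exact isIso_app_of_isZero (α M₂) h
  | @base G₁ V₁ hV₁ hG₁ =>
    induction h₂ with
    | zero h => exact isIso_app_of_isZero (β' ((J V₁).obj G₁)) h
    | @base G₂ V₂ hV₂ hG₂ =>
      haveI := isIso_η_ext₂ p q hp hq sq (hl₁ V₁ hV₁) (hl₂ V₂ hV₂) (hΦ₁.qcoh hG₁) (hΦ₂.qcoh hG₂)
      haveI := isIso_pairE p q hp hq sq (hl₁ V₁ hV₁) (hl₂ V₂ hV₂) (isQCoh_J (hl₁ V₁ hV₁) (hΦ₁.qcoh hG₁))
        (isQCoh_J (hl₂ V₂ hV₂) (hΦ₂.qcoh hG₂))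
      let F := ext₂ p q ((J V₁).obj G₁) ((J V₂).obj G₂)
      let W := p ⁻¹ᵁ V₁ ⊓ q ⁻¹ᵁ V₂
      haveI := isIso_resA (A := A) (le_top : V₁ ≤ ⊤) _ (bijective_res_J V₁ G₁ le_top inf_le_left)
      haveI := isIso_resA (A := A) (le_top : V₂ ≤ ⊤) _ (bijective_res_J V₂ G₂ le_top inf_le_left)
      have hb₃ : Function.Bijective (QC.res F (le_top : W ≤ ⊤)) := by
        have hb : Function.Bijective (((η W).app F).app ⊤) := ConcreteCategory.bijective_of_isIso _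
        rw [Scheme.Modules.restrictAdjunction_unit_app_app] at hb
        have heq : W.ι ''ᵁ (W.ι ⁻¹ᵁ ⊤) = W := (image_preimage _ _).trans (inf_eq_left.2 le_top)
        refine (congrArg Function.Bijective ?_).mp ((bijective_map_of_eq _ heq.ge heq.le).comp hb)
        funext s
        exact QC.res_res (M := F) _ _ s
      haveI := isIso_resA (A := A) (le_top : W ≤ ⊤) _ hb₃
      exact IsIso.of_isIso_fac_right (pairE_res p q hp hq (le_top : V₁ ≤ ⊤) (le_top : V₂ ≤ ⊤) (le_top : W ≤ ⊤)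
        le_top le_top inf_le_left inf_le_right ((J V₁).obj G₁) ((J V₂).obj G₂)).symm
    | @biprod M M' _ _ ih ih' =>
      haveI : IsIso ((β' ((J V₁).obj G₁)).app M) := ih
      haveI : IsIso ((β' ((J V₁).obj G₁)).app M') := ih'
      exact isIso_app_biprod (β' ((J V₁).obj G₁)) M M'
    | of_iso e _ ih =>
      haveI : IsIso ((β' ((J V₁).obj G₁)).app _) := ih
      exact isIso_app_of_iso (β' ((J V₁).obj G₁)) e
  | @biprod M M' _ _ ih ih' =>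
    haveI : IsIso ((α M₂).app M) := ih
    haveI : IsIso ((α M₂).app M') := ih'
    exact isIso_app_biprod (α M₂) M M'
  | of_iso e _ ih =>
    haveI : IsIso ((α M₂).app _) := ih
    exact isIso_app_of_iso (α M₂) e

end Groth.Agent.HTorBC
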