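import Groth.Agent.HTorBC.KunnFlat
import Groth.Agent.TorBC.Main

/-!
Base change for `Rf_*` of a bounded above complex of quasi-coherent modules flat over the base.
-/

set_option autoImplicit false
set_option backward.isDefEq.respectTransparency false
set_option backward.isDefEq.respectTransparency.types false
set_option linter.style.haveILetI false
set_option linter.unusedSectionVars false

universe u

open CategoryTheory Limits AlgebraicGeometry HomologicalComplex

attribute [local instance] HasDerivedCategory.standard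

namespace Groth.Agent.HTorBC

open Groth.Agent.KFlat Groth.Agent.ProjForm Groth.Agent.TorBC

variable {X Y : Scheme.{u}}

/-- `g_*` of a resolution of a complex of quasi-coherent modules, for affine `g` -/
lemma quasiIso_push_of_affine (g : Y ⟶ X) [IsAffineHom g] {D : CochainComplex Y.Modules ℤ}
    (hq : ∀ n, Coh.IsQCoh (D.X n)) {J : CochainComplex Y.Modules ℤ} [J.IsKInjective]
    (ι : D ⟶ J) [QuasiIso ι] : QuasiIso ((pC g).map ι) := by
  haveI := DerPush.hasRpush_sch g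
  let q := HomotopyCategory.quotient Y.Modules (ComplexShape.up ℤ)
  haveI := DQPush.isIso_unit_of_affine g D hq
  haveI : IsIso ((DerPush.rpushUnit g).app (q.obj J)) := DerPush.isIso_rpushUnit_app g (I := q.obj J) ‹_›
  haveI : IsIso (DerivedCategory.Qh.map (q.map ι)) :=
    (NatIso.isIso_map_iff (DerivedCategory.quotientCompQhIso Y.Modules) ι).2 inferInstance
  have e := (DerPush.rpushUnit g).naturality (q.map ι)
  haveI : IsIso ((DerPush.rpushUnit g).app (q.obj D) ≫
      (DCoh.Rpush g).map (DerivedCategory.Qh.map (q.map ι))) := inferInstance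
  haveI : IsIso ((DCoh.pushKh g).map (q.map ι) ≫ (DerPush.rpushUnit g).app (q.obj J)) :=
    e.symm ▸ ‹IsIso ((DerPush.rpushUnit g).app (q.obj D) ≫ _)›
  haveI : IsIso ((DCoh.pushKh g).map (q.map ι)) :=
    IsIso.of_isIso_comp_right _ ((DerPush.rpushUnit g).app (q.obj J))
  refine (DerivedCategory.isIso_Q_map_iff_quasiIso _ _).1 ?_
  exact (NatIso.isIso_map_iff (DerivedCategory.quotientCompQhIso X.Modules) ((pC g).map ι)).1
    ‹IsIso ((DCoh.pushKh g).map (q.map ι))›

variable {S S' X' : Scheme.{u}} {f : X ⟶ S} {g₀ : S' ⟶ S} {g' : X' ⟶ X} {f' : X' ⟶ S'}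

/-- **the local hypothesis for a complex flat over the base** -/
theorem quasiIso_tMap_cx [IsAffineHom g₀] (H : IsPullback g' f' f g₀) {L : CochainComplex X.Modules ℤ}
    (hq : ∀ n, Coh.IsQCoh (L.X n)) (b : ℤ) (hb : ∀ n, b < n → IsZero (L.X n))
    (hfl : ∀ n, FlatMod.IsFlatOver f (L.X n))
    {P : CochainComplex S.Modules ℤ} (p : P ⟶ sg ((Scheme.Modules.pushforward g₀).obj (OO S'))) [QuasiIso p]
    {J : CochainComplex X'.Modules ℤ} [J.IsKInjective] (t : (qC g').obj L ⟶ J) [QuasiIso t]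
    (π : L ⟶ (pC g').obj J) (hπ : flat' g' π = t) : QuasiIso (tMap H.w p π) := by
  haveI : IsAffineHom g' := MorphismProperty.of_isPullback H.flip ‹IsAffineHom g₀›
  have hψ : psi g' π = unitActC g' L ≫ (pC g').map t := by
    rw [← hπ]
    exact psi_eq_unitActC g' _ π (flat'_spec g' π)
  haveI : ∀ n, IsIso ((unitActC g' L).f n) := fun n => isIso_unitAct g' (hq n)
  haveI : IsIso (unitActC g' L) := HomologicalComplex.Hom.isIso_of_components _
  haveI : QuasiIso ((pC g').map t) :=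
    quasiIso_push_of_affine g' (fun n => QC.isQCoh_pullback g' (hq n)) t
  haveI : IsIso (beta H.w) := isIso_beta H
  haveI : IsIso (betaC H.w) :=
    inferInstanceAs (IsIso ((singleMapHomologicalComplex (Scheme.Modules.pullback f) (ComplexShape.up ℤ) 0).hom.app _ ≫
      (HomologicalComplex.single X.Modules (ComplexShape.up ℤ) 0).map (beta H.w)))
  haveI : QuasiIso ((DCoh.tensorCx.obj L).map ((qC f).map p)) := quasiIso_tens_flatPull f p b hb hfl
  haveI : QuasiIso ((DCoh.tensorCx.obj L).map ((qC f).map p ≫ betaC H.w)) := by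
    rw [Functor.map_comp]; infer_instance
  change QuasiIso ((DCoh.tensorCx.obj L).map ((qC f).map p ≫ betaC H.w) ≫ (sR L _).inv ≫ psi g' π)
  rw [hψ]
  infer_instance

/-- the local hypothesis, after restriction to an affine piece -/
theorem exists_local_cx {L : CochainComplex X.Modules ℤ} (hq : ∀ n, Coh.IsQCoh (L.X n)) (b : ℤ)
    (hb : ∀ n, b < n → IsZero (L.X n)) (hfl : ∀ n, FlatMod.IsFlatOver f (L.X n))
    {N : CochainComplex X.Modules ℤ} (l : L ⟶ N) [QuasiIso l]
    {J : CochainComplex X'.Modules ℤ} [J.IsKInjective] (π : N ⟶ (pC g').obj J)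
    [QuasiIso (flat' g' (l ≫ π))]
    {Vs Xs Ws Ys : Scheme.{u}} (jV : Vs ⟶ S) (jX : Xs ⟶ X) (jY : Ys ⟶ X') [IsOpenImmersion jV]
    [IsOpenImmersion jX] [IsOpenImmersion jY] {fV : Xs ⟶ Vs} {gW : Ws ⟶ Vs} {gY : Ys ⟶ Xs} {fY : Ys ⟶ Ws}
    [IsAffine Vs] [IsAffine Ws] (HW : IsPullback gY fY fV gW) (wf : fV ≫ jV = jX ≫ f)
    (wg' : gY ≫ jX = jY ≫ g') (hrf : jX.opensRange = f ⁻¹ᵁ jV.opensRange) :
    ∃ (P : CochainComplex Vs.Modules ℤ) (p : P ⟶ sg ((Scheme.Modules.pushforward gW).obj (OO Ws))),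
      DCoh.IsKFlat P ∧ QuasiIso p ∧ QuasiIso (tMap HW.w p (resC wg' π)) := by
  haveI : CochainComplex.IsKInjective ((rC jY).obj J) := DQPush.isKInjective_restrict_open jY J ‹_›
  let P := (resF Vs).obj (sg ((Scheme.Modules.pushforward gW).obj (OO Ws)))
  let p := (resψ Vs).app (sg ((Scheme.Modules.pushforward gW).obj (OO Ws)))
  have hP : DCoh.IsKFlat P := isKFlat_resF _
  refine ⟨P, p, hP, inferInstance, ?_⟩
  let L₁ := (qC jX).obj L
  have HX : IsPullback jX fV f jV :=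
    (IsOpenImmersion.isPullback fV jX jV f wf.symm hrf.symm).flip
  have hfl₁ : ∀ n, FlatMod.IsFlatOver fV (L₁.X n) := fun n x =>
    FlatModBC.isFlatOverAt_baseChange HX (L.X n) x (hfl n _)
  let e : L₁ ≅ (rC jX).obj L :=
    ((NatIso.mapHomologicalComplex (Scheme.Modules.restrictFunctorIsoPullback jX) (ComplexShape.up ℤ)).app L).symm
  let π₁ := e.hom ≫ resC wg' (l ≫ π)
  haveI : QuasiIso (flat' gY π₁) := by
    haveI := quasiIso_flat'_resC wg' (l ≫ π)
    rw [flat'_naturality_left]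
    infer_instance
  haveI h1 : QuasiIso (tMap HW.w p π₁) :=
    quasiIso_tMap_cx HW (L := L₁) (fun n => QC.isQCoh_pullback jX (hq n)) b
      (fun n hn => (Scheme.Modules.pullback jX).map_isZero (hb n hn)) hfl₁ p (flat' gY π₁) π₁ rfl
  have e1 : π₁ = (e.hom ≫ (rC jX).map l) ≫ resC wg' π := by
    simp only [π₁, resC_comp, Category.assoc]
  rw [e1, tMap_comp] at h1
  haveI := h1
  haveI : QuasiIso ((DCoh.tensorCx.map (e.hom ≫ (rC jX).map l)).app ((qC fV).obj P)) :=
    quasiIso_map_app_sch _ (isKFlat_pullback fV hP) _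
  exact quasiIso_of_comp_left ((DCoh.tensorCx.map (e.hom ≫ (rC jX).map l)).app ((qC fV).obj P)) _

/-- **base change** for a bounded above complex of quasi-coherent modules flat over the base -/
theorem nonempty_baseChange_cx [QuasiCompact f] [QuasiSeparated f] (H : IsPullback g' f' f g₀)
    (L : CochainComplex X.Modules ℤ) (hq : ∀ n, Coh.IsQCoh (L.X n)) (b : ℤ)
    (hb : ∀ n, b < n → IsZero (L.X n)) (hfl : ∀ n, FlatMod.IsFlatOver f (L.X n))
    [DCoh.HasRpush f] [DCoh.HasLpull g₀] [DCoh.HasRpush f'] :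
    Nonempty ((DCoh.Lpull g₀).obj ((DCoh.Rpush f).obj (DerivedCategory.Q.obj L)) ≅
      (DCoh.Rpush f').obj (DerivedCategory.Q.obj ((qC g').obj L))) := by
  obtain ⟨I, σ₀, hI, hσ₀⟩ := DerPush.exists_kInj_sch L
  obtain ⟨J, t, hJ, ht⟩ := DerPush.exists_kInj_sch ((qC g').obj L)
  let β : L ⟶ (pC g').obj J :=
    (KInj.mapHomologicalComplexAdj (Scheme.Modules.pullbackPushforwardAdjunction g') (ComplexShape.up ℤ)).homEquiv L J t
  have hβ : flat' g' β = t := Equiv.symm_apply_apply _ _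
  obtain ⟨J₂, ψ, hJ₂, hψ⟩ := DerPush.exists_kInj_sch ((pC g').obj J)
  obtain ⟨k, hk⟩ := KInj.Q_map_surjective (K := I) (I := J₂)
    (inv (DerivedCategory.Q.map σ₀) ≫ DerivedCategory.Q.map (β ≫ ψ))
  have hk' : DerivedCategory.Q.map (β ≫ ψ) = DerivedCategory.Q.map (σ₀ ≫ k) := by
    rw [Functor.map_comp _ σ₀, hk, IsIso.hom_inv_id_assoc]
  obtain ⟨Hk⟩ := KInj.nonempty_homotopy_of_Q_map_eq hk'
  obtain ⟨l, hl₁, hl₂⟩ := exists_hp_lift k ψ σ₀ β (Homotopy.equivSubZero.symm Hk)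
  haveI := quasiIso_hpσ k ψ
  haveI hfσ : QuasiIso ((pC f).map (hpσ k ψ)) :=
    quasiIso_map_hpσ k ψ (Scheme.Modules.pushforward f) (quasiIso_push_res g' f J ψ)
  haveI : QuasiIso l := by
    haveI : QuasiIso (l ≫ hpσ k ψ) := by rw [hl₁]; infer_instance
    exact quasiIso_of_comp_right l (hpσ k ψ)
  haveI : QuasiIso (flat' g' (l ≫ hpπ k ψ)) := by rw [hl₂, hβ]; infer_instance
  let F := (resF S).obj ((pC f).obj (hp k ψ))
  let q := (resψ S).app ((pC f).obj (hp k ψ))
  have hF : DCoh.IsKFlat F := isKFlat_resF _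
  have hIq : ∀ i, Coh.IsQCoh (I.homology i) :=
    isQCoh_homology_of_qis σ₀ (DQCoh.isQCoh_homology_of_X L hq)
  have hJq : ∀ i, Coh.IsQCoh (J.homology i) :=
    isQCoh_homology_of_qis t (DQCoh.isQCoh_homology_of_X _ fun n => QC.isQCoh_pullback g' (hq n))
  haveI hΦ : QuasiIso (flat' g₀ (q ≫ (pC f).map (hpπ k ψ) ≫ bcX H.w J)) :=
    quasiIso_baseChange_local H (hpσ k ψ) hIq hJq (hpπ k ψ)
      (fun jV jX _ jY _ _ _ _ _ _ _ _ _ _ _ _ HW wf wg' _ hrf =>
        exists_local_cx hq b hb hfl l (hpπ k ψ) jV jX jY HW wf wg' hrf) hF q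
  let eF : DerivedCategory.Q.obj F ≅ DerivedCategory.Q.obj ((pC f).obj I) :=
    asIso (DerivedCategory.Q.map (q ≫ (pC f).map (hpσ k ψ)))
  exact ⟨(DCoh.Lpull g₀).mapIso ((DCoh.Rpush f).mapIso (asIso (DerivedCategory.Q.map σ₀)) ≪≫
      (ProjForm.rpushIso f I).symm ≪≫ eF.symm) ≪≫
    ProjForm.lpullIso g₀ hF ≪≫ asIso (DerivedCategory.Q.map (flat' g₀ (q ≫ (pC f).map (hpπ k ψ) ≫ bcX H.w J))) ≪≫
    ProjForm.rpushIso f' J ≪≫ (DCoh.Rpush f').mapIso (asIso (DerivedCategory.Q.map t)).symm⟩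

end Groth.Agent.HTorBC
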