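import Groth.Agent.TorBC.FlatExact
import Groth.Agent.KFlat.Bounded
import Groth.Agent.KFlat.LTensorCx

/-!
`L ⊗ h^*(-)` preserves quasi-isomorphisms for a bounded above complex `L` with terms flat over the base.
-/

set_option autoImplicit false
set_option backward.isDefEq.respectTransparency false
set_option backward.isDefEq.respectTransparency.types false
set_option linter.style.haveILetI false
set_option linter.unusedSectionVars false

universe u

open CategoryTheory Limits AlgebraicGeometry HomologicalComplex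

attribute [local instance] HasDerivedCategory.standard

namespace Groth.Agent.HTorBC

open Groth.Agent.KFlat Groth.Agent.ProjForm Groth.Agent.TorBC

variable {X S : Scheme.{u}} (h : X ⟶ S)

/-- `h^*C ⊗ F[-m]` is acyclic for acyclic `C` and `F` flat over the base -/
lemma acyclic_flatPull_single {C : CochainComplex S.Modules ℤ} (hC : C.Acyclic) {F : X.Modules}
    (hF : FlatMod.IsFlatOver h F) (m : ℤ) :
    (((tens (schB X)).obj ((qC h).obj C)).obj ((single X.Modules (ComplexShape.up ℤ) m).obj F)).Acyclic := by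
  intro n
  obtain ⟨p, rfl⟩ : ∃ p, p + 1 + m = n := ⟨n - m - 1, by lia⟩
  rw [exactAt_iff' _ (p + m) (p + 1 + m) (p + 1 + m + 1) (by simp; lia) (by simp)]
  haveI := preservesHomology_flatPull h F hF
  have h0 := ((C.exactAt_iff' p (p + 1) (p + 1 + 1) (by simp) (by simp)).1 (hC (p + 1))).map
    (Scheme.Modules.pullback h ⋙ (schB X).flip.obj F)
  refine (ShortComplex.exact_iff_of_iso ?_).1 h0
  refine ShortComplex.isoMk (singleXIso (schB X) ((qC h).obj C) F m p (p + m) rfl)
    (singleXIso (schB X) ((qC h).obj C) F m (p + 1) (p + 1 + m) rfl)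
    (singleXIso (schB X) ((qC h).obj C) F m (p + 1 + 1) (p + 1 + m + 1) (by lia)) ?_ ?_
  · exact singleXIso_comm' (schB X) ((qC h).obj C) F m p (p + m) (p + 1 + m) rfl (by lia)
  · exact singleXIso_comm (schB X) ((qC h).obj C) F m (p + 1) (p + 1 + m) rfl

/-- `h^*C ⊗ L` is acyclic for acyclic `C` and bounded above `L` with terms flat over the base -/
lemma acyclic_flatPull_tens {C : CochainComplex S.Modules ℤ} (hC : C.Acyclic) {L : CochainComplex X.Modules ℤ}
    (b : ℤ) (hb : ∀ n, b < n → IsZero (L.X n)) (hfl : ∀ n, FlatMod.IsFlatOver h (L.X n)) :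
    (((tens (schB X)).obj ((qC h).obj C)).obj L).Acyclic := by
  let M := (qC h).obj C
  have hN : ∀ M : X.Modules, PreservesColimitsOfShape ℕ ((schB X).obj M) :=
    fun M => preservesColimits_nat X.sheaf M
  haveI : HasExactColimitsOfShape ℕ X.Modules := hasExactColimits_nat X.sheaf
  haveI := preservesColimitsOfShape_tens_obj (schB X) hN M
  refine acyclic_of_isColimit (isColimitOfPreserves ((tens (schB X)).obj M) (isColimitTruncCocone L b)) fun k => ?_
  change (((tens (schB X)).obj M).obj (trunc L (b + 1 - k))).Acyclic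
  induction k with
  | zero =>
    refine acyclic_of_isZero fun i => ?_
    refine Functor.map_isZero (eval X.Modules _ i) (((tens (schB X)).obj M).map_isZero ?_)
    rw [IsZero.iff_id_eq_zero]
    ext q : 1
    change 𝟙 (tX L (b + 1 - (0 : ℕ)) q) = 0
    by_cases hq : b + 1 - (0 : ℕ) ≤ q
    · rw [tX, if_pos hq]; exact (hb q (by lia)).eq_of_src _ _
    · exact (isZero_tX L _ q hq).eq_of_src _ _
  | succ k ih =>
    have e : b + 1 - (k : ℤ) = b + 1 - ((k + 1 : ℕ) : ℤ) + 1 := by push_cast; lia
    rw [e] at ih
    exact acyclic₂ (shortExact_of_splitting (splittingObj (schB X) M (truncSC L (b + 1 - ((k + 1 : ℕ) : ℤ)))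
      (truncSplitting L _))) ih (acyclic_flatPull_single h hC (hfl _) _)

/-- `L ⊗ h^*(-)` preserves quasi-isomorphisms -/
theorem quasiIso_tens_flatPull {A B : CochainComplex S.Modules ℤ} (α : A ⟶ B) [QuasiIso α]
    {L : CochainComplex X.Modules ℤ}
    (b : ℤ) (hb : ∀ n, b < n → IsZero (L.X n)) (hfl : ∀ n, FlatMod.IsFlatOver h (L.X n)) :
    QuasiIso ((DCoh.tensorCx.obj L).map ((qC h).map α)) := by
  refine quasiIso_obj_map_of_acyclic (B := schB X) L ((qC h).map α) ?_
  exact acyclic_of_iso (((tens (schB X)).obj L).mapIso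
      (CochainComplex.mappingCone.mapHomologicalComplexIso α (Scheme.Modules.pullback h)))
    (acyclic_of_iso (swapIso (braid X.sheaf) _ L)
      (acyclic_flatPull_tens h (mappingCone_acyclic α) b hb hfl))

end Groth.Agent.HTorBC
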