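import Groth.Agent.DQCoh.PCTensor
import Groth.Agent.RelPCS.FlatBase
import Groth.Agent.K0Coh.Basic
import Groth.Prelude.Def_HTor

/-!
Coherence of the local hypertor sheaves.
-/

set_option autoImplicit false
set_option backward.isDefEq.respectTransparency false
set_option backward.isDefEq.respectTransparency.types false
set_option linter.style.haveILetI false
set_option linter.unusedSectionVars false

universe u

open CategoryTheory Limits AlgebraicGeometry HomologicalComplex

attribute [local instance] HasDerivedCategory.standard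

namespace Groth.Agent.HTorBC

open Groth.Agent.KFlat Groth.Agent.ProjForm

variable {X Y Z : Scheme.{u}}

/-- `Lp^*P ⊗^L q^*Q` has coherent cohomology for flat `q` -/
theorem isCohD_localTor (p : Z ⟶ X) (q : Z ⟶ Y) [Flat q] [IsLocallyNoetherian X] [IsLocallyNoetherian Z]
    (P : CochainComplex X.Modules ℤ) (Q : CochainComplex Y.Modules ℤ)
    (a : ℤ) (ha : ∀ i, a < i → IsZero (P.X i)) (b : ℤ) (hb : ∀ i, b < i → IsZero (Q.X i))
    (hP : DCoh.IsCohD (DCoh.toD X P)) (hQ : DCoh.IsCohD (DCoh.toD Y Q))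
    [DCoh.HasLpull p] [DCoh.HasLTensorCx ((HTor.pullCx q).obj Q)] :
    DCoh.IsCohD ((DCoh.LTensorCx ((HTor.pullCx q).obj Q)).obj ((DCoh.Lpull p).obj (DCoh.toD X P))) := by
  have hP0 : ∀ i, a < i → IsZero (P.homology i) := fun i hi =>
    ShortComplex.isZero_homology_of_isZero_X₂ _ (ha i hi)
  let P₀ := (resF X).obj P
  have hP₀ : DCoh.IsKFlat P₀ := isKFlat_resF P
  let r : DerivedCategory.Q.obj P₀ ≅ DerivedCategory.Q.obj P := asIso (DerivedCategory.Q.map ((resψ X).app P))
  have hP₀a : ∀ i, a + 1 ≤ i → IsZero (P₀.homology i) := fun i hi =>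
    (hP0 i (by lia)).of_iso (isoOfQuasiIsoAt ((resψ X).app P) i)
  have hLc : DCoh.IsCohD ((DCoh.Lpull p).obj (DCoh.toD X P)) := DQCoh.isCohD_of_pc _ fun m =>
    DerPerf.isPseudoCoherent_Lpull p m _ (DQCoh.pc_of_isCohD _ hP a (fun i hi => (hP0 i hi).of_iso (KFlat.hdIso P i)) m)
  have hLb : ∀ i, a < i → IsZero (DCoh.HD ((DCoh.Lpull p).obj (DCoh.toD X P)) i) := fun i hi =>
    (DerPerf.isZero_homology_pullback p hP₀ (a + 1) hP₀a i (by lia)).of_iso
      ((DerivedCategory.homologyFunctor _ i).mapIso ((DCoh.Lpull p).mapIso r.symm ≪≫ ProjForm.lpullIso p hP₀) ≪≫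
        KFlat.hdIso _ i)
  haveI := RelPCS.preservesFiniteLimits_pullback q
  haveI := (Scheme.Modules.pullbackPushforwardAdjunction q).leftAdjoint_preservesColimits.{0, 0}
  haveI : (Scheme.Modules.pullback q).PreservesHomology := inferInstance
  have hQc : DCoh.IsCohD (DCoh.toD Z ((HTor.pullCx q).obj Q)) := fun i =>
    K0Coh.isCoh_of_iso ((Scheme.Modules.pullback q).mapIso (KFlat.hdIso Q i) ≪≫
      ((Q.sc i).mapHomologyIso (Scheme.Modules.pullback q)).symm ≪≫ (KFlat.hdIso ((HTor.pullCx q).obj Q) i).symm)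
      (QC.isCoh_pullback q (hQ i))
  exact (DQCoh.isCohD_lTensor _ _ hLc a hLb hQc b fun i hi =>
    (ShortComplex.isZero_homology_of_isZero_X₂ _ ((Scheme.Modules.pullback q).map_isZero (hb i hi))).of_iso
      (KFlat.hdIso _ i)).1

/-- a coherent module, as a complex, has coherent cohomology -/
lemma isCohD_single {M : X.Modules} (hM : Coh.IsCoh M) :
    DCoh.IsCohD (DCoh.toD X ((HomologicalComplex.single X.Modules (ComplexShape.up ℤ) 0).obj M)) := fun i => by
  by_cases hi : i = 0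
  · subst hi
    exact K0Coh.isCoh_of_iso ((singleObjHomologySelfIso (ComplexShape.up ℤ) 0 M).symm ≪≫ (KFlat.hdIso _ 0).symm) hM
  · have h0 := (isZero_single_obj_homology (ComplexShape.up ℤ) 0 M i hi).of_iso (KFlat.hdIso _ i)
    exact ⟨DQCoh.isQCoh_of_isZero h0,
      @QC.isFT_of_epi _ M _ (0 : M ⟶ _) ⟨fun _ _ _ => h0.eq_of_src _ _⟩ hM.2⟩

end Groth.Agent.HTorBC
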