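import Groth.Agent.HTorBC.SecCx
import Groth.Agent.QC.Localisation
import Groth.Agent.DerPlus.Acyclic
import Groth.Agent.CohQC.Push
import Mathlib.Algebra.Homology.HomotopyCategory.MappingCocone

/-!
The Čech resolution of a complex of quasi-coherent modules for finitely many affine opens, built by iterated
mapping cocones of `M ⟶ j_* j^* M`.
-/

set_option autoImplicit false
set_option backward.isDefEq.respectTransparency false
set_option backward.isDefEq.respectTransparency.types false
set_option linter.style.haveILetI false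
set_option linter.unusedSectionVars false
set_option maxHeartbeats 1000000

universe u

open CategoryTheory CategoryTheory.Limits AlgebraicGeometry TopologicalSpace Opposite CochainComplex
open scoped ZeroObject

attribute [local instance] HasDerivedCategory.standard

noncomputable section

namespace Groth.Agent.HTorBC

open Groth.Agent.W7Cech (secA secRing)
open Groth.Agent.QC

/-- shifts of acyclic complexes -/
lemma acyclic_shift {C : Type*} [Category* C] [Abelian C] {K : CochainComplex C ℤ} (h : K.Acyclic) (a : ℤ) :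
    (K⟦a⟧).Acyclic := fun i => by
  rw [HomologicalComplex.exactAt_iff_isZero_homology]
  exact ((HomologicalComplex.exactAt_iff_isZero_homology _ _).1 (h (a + i))).of_iso
    (((HomologicalComplex.homologyFunctor C (ComplexShape.up ℤ) 0).shiftIso a i (a + i) rfl).app K)

lemma acyclic_of_iso {C : Type*} [Category* C] [Abelian C] {K L : CochainComplex C ℤ} (e : K ≅ L) (h : K.Acyclic) :
    L.Acyclic := fun i => (h i).of_iso e

/-- cocones of quasi-isomorphisms -/
lemma acyclic_map_mappingCocone {C D : Type*} [Category* C] [Abelian C] [Category* D] [Abelian D] (F : C ⥤ D)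
    [F.Additive] {K L : CochainComplex C ℤ} (φ : K ⟶ L)
    (h : QuasiIso ((F.mapHomologicalComplex (ComplexShape.up ℤ)).map φ)) :
    ((F.mapHomologicalComplex (ComplexShape.up ℤ)).obj (mappingCocone φ)).Acyclic :=
  acyclic_of_iso (((F.mapHomologicalComplex (ComplexShape.up ℤ)).commShiftIso (-1 : ℤ)).app (mappingCone φ)).symm
    (acyclic_shift (acyclic_of_iso (mappingCone.mapHomologicalComplexIso φ F).symm
      ((DerPlus.quasiIso_iff_acyclic_mappingCone _).1 h)) _)

/-- a short exact sequence of complexes with acyclic middle shifts -/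
lemma nonempty_Q_iso_shift {C : Type*} [Category* C] [Abelian C] [HasDerivedCategory C]
    {S : ShortComplex (CochainComplex C ℤ)} (hS : S.ShortExact) (h : S.X₂.Acyclic) :
    Nonempty (DerivedCategory.Q.obj S.X₃ ≅ DerivedCategory.Q.obj (S.X₁⟦(1 : ℤ)⟧)) := by
  have hz : IsZero (DerivedCategory.Q.obj S.X₂) := by
    haveI : QuasiIso (0 : S.X₂ ⟶ S.X₂) := ⟨fun n => (quasiIsoAt_iff_exactAt _ n (h n)).2 (h n)⟩
    have h0 : IsIso ((DerivedCategory.Q : _ ⥤ DerivedCategory C).map (0 : S.X₂ ⟶ S.X₂)) := inferInstance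
    rw [Functor.map_zero] at h0
    rw [IsZero.iff_id_eq_zero]
    exact (IsIso.hom_inv_id (0 : DerivedCategory.Q.obj S.X₂ ⟶ DerivedCategory.Q.obj S.X₂)).symm.trans zero_comp
  haveI : IsIso (DerivedCategory.triangleOfSES hS).mor₃ :=
    (Pretriangulated.Triangle.isZero₂_iff_isIso₃ _ (DerivedCategory.triangleOfSES_distinguished hS)).1 hz
  exact ⟨asIso (DerivedCategory.triangleOfSES hS).mor₃ ≪≫
    (((DerivedCategory.Q : _ ⥤ DerivedCategory C).commShiftIso (1 : ℤ)).app S.X₁).symm⟩

variable {A : Type u} [CommRing A] {X : Scheme.{u}} [X.Over (Spec (CommRingCat.of A))]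

/-- restriction of sections, linearly -/
def resA {V V' : X.Opens} (h : V' ≤ V) (M : X.Modules) : (secA A V).obj M ⟶ (secA A V').obj M :=
  ModuleCat.ofHom (X := ((secA A V).obj M : Type u)) (Y := ((secA A V').obj M : Type u))
    ({ toFun := fun s => (QC.res M h s :)
       map_add' := fun s t => map_add (QC.res M h) s t
       map_smul' := fun a s => by
        refine (QC.res_smul (M := M) h (secRing A V a) s).trans ?_
        rw [Groth.Agent.W7Cech.resO_secRing]
        rfl } : ((secA A V).obj M : Type u) →ₗ[A] ((secA A V').obj M : Type u))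

/-- `j_* j^*` -/
abbrev J (U : X.Opens) : X.Modules ⥤ X.Modules :=
  Scheme.Modules.restrictFunctor U.ι ⋙ Scheme.Modules.pushforward U.ι

instance additive_J (U : X.Opens) : (J U).Additive :=
  haveI := (Scheme.Modules.restrictAdjunction U.ι).left_adjoint_additive
  haveI := (Scheme.Modules.restrictAdjunction U.ι).right_adjoint_additive
  inferInstance

/-- `M ⟶ j_* j^* M` -/
abbrev η (U : X.Opens) : 𝟭 X.Modules ⟶ J U := (Scheme.Modules.restrictAdjunction U.ι).unit

lemma image_preimage (U V : X.Opens) : U.ι ''ᵁ (U.ι ⁻¹ᵁ V) = U ⊓ V := by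
  rw [Scheme.Hom.image_preimage_eq_opensRange_inf, Scheme.Opens.opensRange_ι]

lemma bijective_map_of_eq (M : X.Modules) {V W : X.Opens} (h : W ≤ V) (e : V ≤ W) :
    Function.Bijective (M.presheaf.map (homOfLE h).op) := by
  haveI : IsIso (homOfLE h) := ⟨homOfLE e, Subsingleton.elim _ _, Subsingleton.elim _ _⟩
  exact ConcreteCategory.bijective_of_isIso (M.presheaf.map (homOfLE h).op)

lemma bijective_η_app (U : X.Opens) (M : X.Modules) {V : X.Opens} (h : V ≤ U) :
    Function.Bijective (((η U).app M).app V) := by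
  rw [Scheme.Modules.restrictAdjunction_unit_app_app]
  exact bijective_map_of_eq M _ (by rw [image_preimage]; exact le_inf h le_rfl)

lemma bijective_res_J (U : X.Opens) (M : X.Modules) {V V' : X.Opens} (h : V' ≤ V) (h' : U ⊓ V ≤ V') :
    Function.Bijective (QC.res ((J U).obj M) h) :=
  bijective_map_of_eq M (U.ι.image_mono (U.ι.preimage_mono h)) (by
    rw [image_preimage, image_preimage]
    exact le_inf inf_le_left h')

lemma isQCoh_J [X.IsSeparated] {U : X.Opens} (hU : IsAffineOpen U) {M : X.Modules} (hM : Coh.IsQCoh M) :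
    Coh.IsQCoh ((J U).obj M) := by
  haveI : IsAffineHom U.ι := CohQC.isAffineHom_ι (fun _ _ hV hW => hV.inf hW) hU
  haveI : (M.restrict U.ι).IsQuasicoherent := isQCoh_restrict U.ι hM
  exact QC.isQCoh_pushforward U.ι

/-- sections of `j_* j^* M` -/
def secJIso (U : X.Opens) (M : X.Modules) (V : X.Opens) : (secA A V).obj ((J U).obj M) ≅ (secA A (U ⊓ V)).obj M :=
  haveI : IsIso (resA (A := A) (inf_le_right : U ⊓ V ≤ V) ((J U).obj M)) :=
    (ConcreteCategory.isIso_iff_bijective _).2 (bijective_res_J U M inf_le_right le_rfl)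
  haveI : IsIso ((secA A (U ⊓ V)).map ((η U).app M)) :=
    (ConcreteCategory.isIso_iff_bijective _).2 (bijective_η_app U M inf_le_left)
  asIso (resA (A := A) (inf_le_right : U ⊓ V ≤ V) ((J U).obj M)) ≪≫ (asIso ((secA A (U ⊓ V)).map ((η U).app M))).symm

lemma FlatSec.J [X.IsSeparated] {U : X.Opens} (hU : IsAffineOpen U) {M : X.Modules} (hM : FlatSec (A := A) M) :
    FlatSec (A := A) ((J U).obj M) :=
  ⟨isQCoh_J hU hM.qcoh, fun V hV =>
    haveI := hM.flat (U ⊓ V) (hU.inf hV)
    flat_of_iso A (secJIso U M V).symm⟩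

/-- a class of quasi-coherent modules closed under the operations of the resolution -/
structure Stable (Φ : X.Modules → Prop) : Prop where
  qcoh : ∀ {M : X.Modules}, Φ M → Coh.IsQCoh M
  zero : ∀ {M : X.Modules}, IsZero M → Φ M
  biprod : ∀ {M N : X.Modules}, Φ M → Φ N → Φ (M ⊞ N)
  of_iso : ∀ {M N : X.Modules}, (M ≅ N) → Φ M → Φ N
  mem_J : ∀ {U : X.Opens}, IsAffineOpen U → ∀ {M : X.Modules}, Φ M → Φ ((HTorBC.J U).obj M)

/-- quasi-coherent modules form a stable class -/
lemma stable_qcoh [X.IsSeparated] : Stable (X := X) Coh.IsQCoh :=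
  ⟨fun h => h, DQCoh.isQCoh_of_isZero, RPushQC.isQCoh_biprod, QC.isQCoh_of_iso, fun hU _ h => isQCoh_J hU h⟩

/-- finite sums of modules pushed forward from the given opens -/
inductive Piece (Φ : X.Modules → Prop) (U : List X.Opens) : X.Modules → Prop
  | zero {M : X.Modules} (h : IsZero M) : Piece Φ U M
  | base {M : X.Modules} (V : X.Opens) (hV : V ∈ U) (h : Φ M) : Piece Φ U ((HTorBC.J V).obj M)
  | biprod {M N : X.Modules} (hM : Piece Φ U M) (hN : Piece Φ U N) : Piece Φ U (M ⊞ N)
  | of_iso {M N : X.Modules} (e : M ≅ N) (h : Piece Φ U M) : Piece Φ U N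

lemma Piece.mono {Φ : X.Modules → Prop} {U U' : List X.Opens} (h : U ⊆ U') {M : X.Modules} (hM : Piece Φ U M) :
    Piece Φ U' M := by
  induction hM with
  | zero h => exact .zero h
  | base V hV h' => exact .base V (h hV) h'
  | biprod _ _ ih ih' => exact .biprod ih ih'
  | of_iso e _ ih => exact .of_iso e ih

lemma flatSec_of_isZero {M : X.Modules} (h : IsZero M) : FlatSec (A := A) M :=
  ⟨DQCoh.isQCoh_of_isZero h, fun V _ =>
    haveI := ModuleCat.subsingleton_of_isZero ((secA A V).map_isZero h)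
    inferInstance⟩

/-- flat quasi-coherent modules form a stable class -/
lemma stable_flatSec [X.IsSeparated] : Stable (X := X) (FlatSec (A := A)) :=
  ⟨fun h => h.qcoh, flatSec_of_isZero, FlatSec.biprod, FlatSec.of_iso, fun hU _ h => h.J hU⟩

lemma Piece.mem {Φ : X.Modules → Prop} (hΦ : Stable Φ) {U : List X.Opens} (hU : ∀ V ∈ U, IsAffineOpen V) {M : X.Modules}
    (hM : Piece Φ U M) : Φ M := by
  induction hM with
  | zero h => exact hΦ.zero h
  | base V hV h' => exact hΦ.mem_J (hU V hV) h'
  | biprod _ _ ih ih' => exact hΦ.biprod ih ih'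
  | of_iso e _ ih => exact hΦ.of_iso e ih

/-- the iterated cocones -/
def R (P : CochainComplex X.Modules ℤ) : List X.Opens → CochainComplex X.Modules ℤ
  | [] => P
  | U :: l => mappingCocone ((NatTrans.mapHomologicalComplex (η U) (ComplexShape.up ℤ)).app (R P l) ≫ 𝟙 _ :
      R P l ⟶ ((J U).mapHomologicalComplex (ComplexShape.up ℤ)).obj (R P l))

/-- the projection -/
def π (P : CochainComplex X.Modules ℤ) : ∀ l : List X.Opens, R P l ⟶ P
  | [] => 𝟙 P
  | _ :: l => mappingCocone.fst _ ≫ π P l

variable [X.IsSeparated] {Φ : X.Modules → Prop} (hΦ : Stable Φ) (P : CochainComplex X.Modules ℤ) (hP : ∀ n, Φ (P.X n))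

include hΦ hP in
/-- the projection is degreewise split with kernel a sum of pushed forward modules -/
theorem exists_splitting : ∀ (l : List X.Opens), (∀ V ∈ l, IsAffineOpen V) → ∀ n : ℤ,
    (∃ (G : X.Modules) (_ : Piece Φ l G) (i : G ⟶ (R P l).X n) (r : (R P l).X n ⟶ G) (s : P.X n ⟶ (R P l).X n),
      i ≫ (π P l).f n = 0 ∧ s ≫ (π P l).f n = 𝟙 _ ∧ i ≫ r = 𝟙 _ ∧ (π P l).f n ≫ s + r ≫ i = 𝟙 _) ∧
    Φ ((R P l).X n)
  | [], _, n => ⟨⟨0, .zero (isZero_zero _), 0, 0, 𝟙 _, by simp, by simp [π], (isZero_zero _).eq_of_src _ _,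
      by simp [π]; rfl⟩, hP n⟩
  | U :: l, hl, n => by
    have hU : IsAffineOpen U := hl U (List.mem_cons_self ..)
    obtain ⟨⟨G, hG, i, r, s, h1, h2, h3, h4⟩, hR⟩ := exists_splitting l (fun V hV => hl V (List.mem_cons_of_mem _ hV)) n
    have hR' := (exists_splitting l (fun V hV => hl V (List.mem_cons_of_mem _ hV)) (n - 1)).2
    let φ : R P l ⟶ ((J U).mapHomologicalComplex (ComplexShape.up ℤ)).obj (R P l) :=
      (NatTrans.mapHomologicalComplex (η U) (ComplexShape.up ℤ)).app (R P l) ≫ 𝟙 _
    let L := (J U).obj ((R P l).X (n - 1))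
    let e : (R P (U :: l)).X n ≅ (R P l).X n ⊞ L :=
      { hom := biprod.lift ((mappingCocone.fst φ).f n) ((mappingCocone.snd φ).v n (n - 1) (by omega))
        inv := biprod.desc ((mappingCocone.inl φ).v n n (add_zero n)) ((mappingCocone.inr φ).1.v (n - 1) n (by omega))
        hom_inv_id := by
          rw [biprod.lift_desc]
          exact mappingCocone.id_X φ n (n - 1) (by omega)
        inv_hom_id := by
          apply biprod.hom_ext <;> apply biprod.hom_ext' <;> simp <;> rfl }
    have hπ : (π P (U :: l)).f n = e.hom ≫ biprod.fst ≫ (π P l).f n := by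
      simp [e, π]; rfl
    refine ⟨⟨G ⊞ L, .biprod (hG.mono (List.subset_cons_self ..)) (.base U (List.mem_cons_self ..) hR'),
      biprod.map i (𝟙 L) ≫ e.inv, e.hom ≫ biprod.map r (𝟙 L), s ≫ biprod.inl ≫ e.inv, ?_, ?_, ?_, ?_⟩,
      hΦ.of_iso e.symm (hΦ.biprod hR (hΦ.mem_J hU hR'))⟩
    · rw [hπ]; apply biprod.hom_ext' <;> simp [h1]
    · rw [hπ]; simp [h2]
    · apply biprod.hom_ext <;> apply biprod.hom_ext' <;> simp [h3]
    · have hb : biprod.fst ≫ (π P l).f n ≫ s ≫ biprod.inl + biprod.map r (𝟙 L) ≫ biprod.map i (𝟙 L) =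
          𝟙 ((R P l).X n ⊞ L) := by
        apply biprod.hom_ext <;> apply biprod.hom_ext' <;> simp [h4]
      have := congrArg (fun z => e.hom ≫ z ≫ e.inv) hb
      simp only [Preadditive.add_comp, Preadditive.comp_add, Category.assoc, Category.id_comp, Iso.hom_inv_id] at this
      rw [hπ]
      simp only [Category.assoc]
      exact this

include hΦ hP in
/-- the iterated cocone is acyclic -/
theorem acyclic_sec : ∀ (l : List X.Opens), (∀ V ∈ l, IsAffineOpen V) → ∀ (V : X.Opens), IsAffineOpen V →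
    (∃ U ∈ l, V ≤ U) → ((secCx A V).obj (R P l)).Acyclic
  | [], _, _, _, ⟨_, h, _⟩ => absurd h (List.not_mem_nil)
  | U :: l, hl, V, hV, ⟨W, hW, hVW⟩ => by
    refine acyclic_map_mappingCocone (secA A V) _ ?_
    by_cases hVU : V ≤ U
    · haveI : IsIso ((secCx A V).map ((NatTrans.mapHomologicalComplex (η U) (ComplexShape.up ℤ)).app (R P l))) := by
        haveI : ∀ k, IsIso (((secCx A V).map ((NatTrans.mapHomologicalComplex (η U) (ComplexShape.up ℤ)).app
            (R P l))).f k) := fun k => (ConcreteCategory.isIso_iff_bijective _).2 (bijective_η_app U _ hVU)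
        exact HomologicalComplex.Hom.isIso_of_components _
      rw [Category.comp_id]
      infer_instance
    · have hWl : W ∈ l := (List.mem_cons.1 hW).resolve_left fun h => hVU (h ▸ hVW)
      have hl' : ∀ V ∈ l, IsAffineOpen V := fun V hV => hl V (List.mem_cons_of_mem _ hV)
      have hU : IsAffineOpen U := hl U (List.mem_cons_self ..)
      have h1 := acyclic_sec l hl' V hV ⟨W, hWl, hVW⟩
      have h2 : ((secCx A V).obj (((J U).mapHomologicalComplex (ComplexShape.up ℤ)).obj (R P l))).Acyclic := by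
        intro k
        rw [exactAt_secCx_iff]
        have h := (exactAt_secCx_iff A (R P l) (U.ι ''ᵁ (U.ι ⁻¹ᵁ V)) k).1 <| acyclic_sec l hl' _
          (by rw [image_preimage]; exact hU.inf hV)
          ⟨W, hWl, by rw [image_preimage]; exact inf_le_right.trans hVW⟩ k
        exact h
      exact ⟨fun k => (quasiIsoAt_iff_exactAt _ k (h1 k)).2 (h2 k)⟩

variable (A) in
include A hΦ hP in
/-- the iterated cocone of a covering is acyclic -/
theorem acyclic_R (l : List X.Opens) (hl : ∀ V ∈ l, IsAffineOpen V) (hcov : ⨆ j : Fin l.length, l[j] = ⊤) :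
    (R P l).Acyclic :=
  acyclic_of_cover (A := A) (fun n => (hΦ.qcoh (exists_splitting hΦ P hP l hl n).2)) (fun j : Fin l.length => l[j])
    (fun j => hl _ (List.getElem_mem _)) hcov
    fun j => acyclic_sec hΦ P hP l hl _ (hl _ (List.getElem_mem _)) ⟨_, List.getElem_mem _, le_rfl⟩

/-- vanishing in high degrees -/
theorem isZero_R {b : ℤ} (hb : ∀ i, b < i → IsZero (P.X i)) :
    ∀ (l : List X.Opens) (i : ℤ), b + l.length < i → IsZero ((R P l).X i)
  | [], i, hi => hb i (by simpa using hi)
  | U :: l, i, hi => by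
    rw [List.length_cons] at hi
    rw [IsZero.iff_id_eq_zero]
    let φ : R P l ⟶ ((J U).mapHomologicalComplex (ComplexShape.up ℤ)).obj (R P l) :=
      (NatTrans.mapHomologicalComplex (η U) (ComplexShape.up ℤ)).app (R P l) ≫ 𝟙 _
    refine (mappingCocone.id_X φ i (i - 1) (by omega)).symm.trans ?_
    rw [(isZero_R hb l i (by omega)).eq_of_tgt ((mappingCocone.fst φ).f i) 0,
      ((J U).map_isZero (isZero_R hb l (i - 1) (by omega))).eq_of_tgt ((mappingCocone.snd φ).v i (i - 1) (by omega)) 0,
      zero_comp, zero_comp, add_zero]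

/-- vanishing in low degrees -/
theorem isZero_R_low {a : ℤ} (ha : ∀ i, i < a → IsZero (P.X i)) :
    ∀ (l : List X.Opens) (i : ℤ), i < a → IsZero ((R P l).X i)
  | [], i, hi => ha i hi
  | U :: l, i, hi => by
    rw [IsZero.iff_id_eq_zero]
    let φ : R P l ⟶ ((J U).mapHomologicalComplex (ComplexShape.up ℤ)).obj (R P l) :=
      (NatTrans.mapHomologicalComplex (η U) (ComplexShape.up ℤ)).app (R P l) ≫ 𝟙 _
    refine (mappingCocone.id_X φ i (i - 1) (by omega)).symm.trans ?_
    rw [(isZero_R_low ha l i hi).eq_of_tgt ((mappingCocone.fst φ).f i) 0,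
      ((J U).map_isZero (isZero_R_low ha l (i - 1) (by omega))).eq_of_tgt ((mappingCocone.snd φ).v i (i - 1) (by omega)) 0,
      zero_comp, zero_comp, add_zero]

/-- the projection is an isomorphism in low degrees -/
theorem isIso_π_low {a : ℤ} (ha : ∀ i, i < a → IsZero (P.X i)) :
    ∀ (l : List X.Opens) (i : ℤ), i ≤ a → IsIso ((π P l).f i)
  | [], i, _ => inferInstanceAs (IsIso ((𝟙 P : P ⟶ P).f i))
  | U :: l, i, hi => by
    let φ : R P l ⟶ ((J U).mapHomologicalComplex (ComplexShape.up ℤ)).obj (R P l) :=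
      (NatTrans.mapHomologicalComplex (η U) (ComplexShape.up ℤ)).app (R P l) ≫ 𝟙 _
    haveI := isIso_π_low ha l i hi
    haveI : IsIso ((mappingCocone.fst φ).f i) := by
      refine ⟨(mappingCocone.inl φ).v i i (add_zero i), ?_, by simp⟩
      have h := mappingCocone.id_X φ i (i - 1) (by omega)
      rwa [((J U).map_isZero (isZero_R_low P ha l (i - 1) (by omega))).eq_of_tgt
        ((mappingCocone.snd φ).v i (i - 1) (by omega)) 0, zero_comp, add_zero] at h
    exact inferInstanceAs (IsIso ((mappingCocone.fst φ).f i ≫ (π P l).f i))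

/-- the sequence `0 → ker π → R → P → 0` -/
abbrev sequence (l : List X.Opens) : ShortComplex (CochainComplex X.Modules ℤ) :=
  ShortComplex.mk (kernel.ι (π P l)) (π P l) (kernel.condition _)

include hΦ hP in
/-- it is degreewise split, the kernel consisting of pushed forward modules -/
theorem exists_sequence_splitting (l : List X.Opens) (hl : ∀ V ∈ l, IsAffineOpen V) (n : ℤ) :
    Nonempty ((sequence P l).map (HomologicalComplex.eval _ _ n)).Splitting ∧
      Piece Φ l ((kernel (π P l)).X n) := by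
  obtain ⟨⟨G, hG, i, r, s, h1, h2, h3, h4⟩, -⟩ := exists_splitting hΦ P hP l hl n
  let E := HomologicalComplex.eval X.Modules (ComplexShape.up ℤ) n
  let S' : ShortComplex X.Modules := ShortComplex.mk i ((π P l).f n) h1
  let σ : S'.Splitting :=
    { r := r, s := s, f_r := h3, s_g := h2, id := (add_comm _ _).trans h4 }
  have hK : IsLimit (KernelFork.ofι (E.map (kernel.ι (π P l)))
      (by rw [← E.map_comp, kernel.condition, E.map_zero]) : KernelFork (E.map (π P l))) :=
    KernelFork.mapIsLimit _ (kernelIsKernel (π P l)) E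
  let e : (kernel (π P l)).X n ≅ G := IsLimit.conePointUniqueUpToIso hK σ.shortExact.fIsKernel
  have he : e.hom ≫ i = (kernel.ι (π P l)).f n :=
    IsLimit.conePointUniqueUpToIso_hom_comp hK σ.shortExact.fIsKernel WalkingParallelPair.zero
  exact ⟨⟨ShortComplex.Splitting.ofIso σ (ShortComplex.isoMk e.symm (Iso.refl _) (Iso.refl _)
    (by
      simp only [Iso.symm_hom, Iso.refl_hom]
      change e.inv ≫ (kernel.ι (π P l)).f n = i ≫ 𝟙 _
      rw [← he, Iso.inv_hom_id_assoc, Category.comp_id])
    (by simp; rfl))⟩, hG.of_iso e.symm⟩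

/-- the resolution -/
abbrev res (l : List X.Opens) : CochainComplex X.Modules ℤ := (kernel (π P l))⟦(1 : ℤ)⟧

include hΦ hP in
lemma piece_res (l : List X.Opens) (hl : ∀ V ∈ l, IsAffineOpen V) (n : ℤ) : Piece Φ l ((res P l).X n) :=
  (exists_sequence_splitting hΦ P hP l hl (n + 1)).2

include hΦ hP in
lemma isZero_res {b : ℤ} (hb : ∀ i, b < i → IsZero (P.X i)) (l : List X.Opens) (hl : ∀ V ∈ l, IsAffineOpen V)
    (n : ℤ) (hn : b + l.length < n + 1) : IsZero ((res P l).X n) := by
  obtain ⟨⟨σ⟩, -⟩ := exists_sequence_splitting hΦ P hP l hl (n + 1)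
  haveI := σ.shortExact.mono_f
  exact IsZero.of_mono ((sequence P l).map (HomologicalComplex.eval _ _ (n + 1))).f (isZero_R P hb l (n + 1) hn)

include hΦ hP in
lemma isZero_res_low {a : ℤ} (ha : ∀ i, i < a → IsZero (P.X i)) (l : List X.Opens) (hl : ∀ V ∈ l, IsAffineOpen V)
    (n : ℤ) (hn : n < a) : IsZero ((res P l).X n) := by
  obtain ⟨⟨σ⟩, -⟩ := exists_sequence_splitting hΦ P hP l hl (n + 1)
  haveI := isIso_π_low P ha l (n + 1) (by omega)
  haveI := σ.shortExact.mono_f
  exact IsZero.of_mono_eq_zero (((sequence P l).map (HomologicalComplex.eval _ _ (n + 1))).f)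
    ((cancel_mono ((π P l).f (n + 1))).1 (Eq.trans ((sequence P l).map (HomologicalComplex.eval _ _ (n + 1))).zero zero_comp.symm))

include hΦ hP in
/-- after an additive functor, the resolution is isomorphic to the complex in the derived category -/
theorem nonempty_map_res_iso {D : Type*} [Category* D] [Abelian D] [HasDerivedCategory D] (F : X.Modules ⥤ D)
    [F.Additive] (l : List X.Opens) (hl : ∀ V ∈ l, IsAffineOpen V)
    (h : ((F.mapHomologicalComplex (ComplexShape.up ℤ)).obj (R P l)).Acyclic) :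
    Nonempty (DerivedCategory.Q.obj ((F.mapHomologicalComplex (ComplexShape.up ℤ)).obj P) ≅
      DerivedCategory.Q.obj ((F.mapHomologicalComplex (ComplexShape.up ℤ)).obj (res P l))) := by
  have hS : ((sequence P l).map (F.mapHomologicalComplex (ComplexShape.up ℤ))).ShortExact :=
    HomologicalComplex.shortExact_of_degreewise_shortExact _ fun n =>
      ((exists_sequence_splitting hΦ P hP l hl n).1.some.map F).shortExact
  obtain ⟨e⟩ := nonempty_Q_iso_shift hS h
  exact ⟨e ≪≫ DerivedCategory.Q.mapIso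
    (((F.mapHomologicalComplex (ComplexShape.up ℤ)).commShiftIso (1 : ℤ)).app _).symm⟩

end Groth.Agent.HTorBC
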